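import Mathlib

/-!
# Anisotropic quadratic maps to `F_2^3` (frame of S1730 [ON])

`V` is elementary abelian, `q : V → F_2^3` a quadratic map with `q v = 0` only for `v = 1`; automorphisms
`s, t, t', k` of `V` are compatible with transvections `S, T, T'` and an element `K` of order 3 of `GL_3(2)`.
All non-trivial fibres of `q` have the same size.  Then `|V| ≤ 8` (`Conf.card_le`).
-/

set_option autoImplicit false
set_option linter.unusedSectionVars false

namespace Cfsg.Agent.RankThreeON.Pencil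

abbrev F := ZMod 2 × ZMod 2 × ZMod 2

/-- basis vectors `z = (1,0,0)`, `a = (0,1,0)`, `b = (0,0,1)`; `S` : `b ↦ b + z`. -/
def mS (f : F) : F := (f.1 + f.2.2, f.2.1, f.2.2)
/-- `T` : `a ↦ a + z`. -/
def mT (f : F) : F := (f.1 + f.2.1, f.2.1, f.2.2)
/-- `T'` : `b ↦ b + a`. -/
def mT' (f : F) : F := (f.1, f.2.1 + f.2.2, f.2.2)
/-- `K` : `z ↦ a ↦ z + a`, `b ↦ b`. -/
def mK (f : F) : F := (f.2.1, f.1 + f.2.1, f.2.2)
/-- exchange of `a` and `b`. -/
def sw (f : F) : F := (f.1, f.2.2, f.2.1)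

variable {V : Type*} [CommGroup V]

/-- anisotropic quadratic maps -/
structure Quad (q : V → F) : Prop where
  two : ∀ v : V, v * v = 1
  zero : ∀ v, q v = 0 → v = 1
  q1 : q 1 = 0
  add : ∀ u v w, q (u * v * w) = q (u * v) + q (u * w) + q (v * w) + q u + q v + q w

/-- fixed points -/
def fx (σ : V →* V) : Subgroup V where
  carrier := {v | σ v = v}
  mul_mem' := by
    intro v w hv hw
    change σ (v * w) = v * w
    rw [map_mul, show σ v = v from hv, show σ w = w from hw]
  one_mem' := map_one σ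
  inv_mem' := by
    intro v hv
    change σ v⁻¹ = v⁻¹
    rw [map_inv, show σ v = v from hv]

theorem mem_fx {σ : V →* V} {v : V} : v ∈ fx σ ↔ σ v = v := Iff.rfl

/-- `v ↦ v (σ v)` -/
def br (σ : V →* V) : V →* V where
  toFun v := v * σ v
  map_one' := by rw [map_one, mul_one]
  map_mul' v w := by rw [map_mul]; exact mul_mul_mul_comm v w (σ v) (σ w)

theorem br_apply (σ : V →* V) (v : V) : br σ v = v * σ v := rfl

theorem eq_of_mul (hV : ∀ v : V, v * v = 1) {v w : V} (h : v * w = 1) : v = w := by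
  have h1 : w⁻¹ = w := inv_eq_of_mul_eq_one_left (hV w)
  rw [eq_inv_of_mul_eq_one_left h, h1]

theorem ker_br (hV : ∀ v : V, v * v = 1) (σ : V →* V) : (br σ).ker = fx σ := by
  ext v
  rw [MonoidHom.mem_ker, br_apply, mem_fx]
  constructor
  · intro h
    exact (eq_of_mul hV h).symm
  · intro h
    rw [h, hV]

theorem card_inf_mul (f : V →* V) (H : Subgroup V) :
    Nat.card (H ⊓ f.ker : Subgroup V) * Nat.card (H.map f) = Nat.card H := by
  have h1 := Subgroup.relIndex_mul_relIndex (⊥ : Subgroup V) (H ⊓ f.ker) H bot_le inf_le_left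
  rw [Subgroup.relIndex_bot_left, Subgroup.relIndex_bot_left, Subgroup.inf_relIndex_left,
    Subgroup.relIndex_ker] at h1
  exact h1

theorem card_split (hV : ∀ v : V, v * v = 1) (σ : V →* V) (H : Subgroup V) :
    Nat.card (H ⊓ fx σ : Subgroup V) * Nat.card (H.map (br σ)) = Nat.card H := by
  rw [← ker_br hV σ]
  exact card_inf_mul _ _

theorem map_br_le (_hV : ∀ v : V, v * v = 1) {σ : V →* V} (h2 : ∀ v, σ (σ v) = v) {H : Subgroup V}
    (hH : ∀ v ∈ H, σ v ∈ H) : H.map (br σ) ≤ H ⊓ fx σ := by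
  rintro _ ⟨v, hv, rfl⟩
  refine ⟨H.mul_mem hv (hH v hv), ?_⟩
  change σ (v * σ v) = v * σ v
  rw [map_mul, h2, mul_comm]

variable [Finite V]

theorem card_le_sq (hV : ∀ v : V, v * v = 1) {σ : V →* V} (h2 : ∀ v, σ (σ v) = v) {H : Subgroup V}
    (hH : ∀ v ∈ H, σ v ∈ H) :
    Nat.card H ≤ Nat.card (H ⊓ fx σ : Subgroup V) * Nat.card (H ⊓ fx σ : Subgroup V) := by
  rw [← card_split hV σ H]
  apply Nat.mul_le_mul_left
  exact Nat.card_le_card_of_injective _ (Subgroup.inclusion_injective (map_br_le hV h2 hH))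

omit [Finite V] in
theorem exists_notMem [Finite V] (H : Subgroup V) (s : Finset V) (h : s.card < Nat.card H) :
    ∃ v ∈ H, v ∉ s := by
  classical
  by_contra hcon
  push Not at hcon
  have h1 : Nat.card H ≤ Nat.card (s : Set V) :=
    Nat.card_le_card_of_injective (fun v : H => (⟨v, hcon v v.2⟩ : (s : Set V)))
      (fun a b hab => Subtype.ext (congrArg (fun c : (s : Set V) => (c : V)) hab))
  have h2 : Nat.card (s : Set V) = s.card := by
    rw [Nat.card_eq_fintype_card]
    simp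
  omega

theorem card_pow (hV : ∀ v : V, v * v = 1) (H : Subgroup V) : ∃ n, Nat.card H = 2 ^ n := by
  have h2 : Fact (Nat.Prime 2) := ⟨Nat.prime_two⟩
  refine IsPGroup.iff_card.1 (?_ : IsPGroup 2 H)
  intro v
  refine ⟨1, ?_⟩
  rw [pow_one, pow_two]
  exact Subtype.ext (hV v)

/-- an anisotropic form with values in a group of order 2 has dimension at most 2 -/
theorem Quad.card_le_four {q : V → F} (hq : Quad q) (H : Subgroup V) (c : F)
    (hH : ∀ v ∈ H, q v = 0 ∨ q v = c) : Nat.card H ≤ 4 := by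
  classical
  by_contra hcon
  push Not at hcon
  have hne : ∀ v ∈ H, v ≠ 1 → q v = c := fun v hv h1 =>
    (hH v hv).resolve_left (fun h => h1 (hq.zero v h))
  obtain ⟨u, hu, hu1⟩ := exists_notMem H {1} (by rw [Finset.card_singleton]; omega)
  obtain ⟨v, hv, hv1⟩ := exists_notMem H {1, u} ((Finset.card_le_two).trans_lt (by omega))
  obtain ⟨w, hw, hw1⟩ := exists_notMem H {1, u, v, u * v} ((Finset.card_le_four).trans_lt (by omega))
  simp only [Finset.mem_singleton] at hu1
  simp only [Finset.mem_insert, Finset.mem_singleton, not_or] at hv1 hw1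
  have h1 : u * v ≠ 1 := fun h => hv1.2 (eq_of_mul hq.two h).symm
  have h2 : u * w ≠ 1 := fun h => hw1.2.1 (eq_of_mul hq.two h).symm
  have h3 : v * w ≠ 1 := fun h => hw1.2.2.1 (eq_of_mul hq.two h).symm
  have h4 : u * v * w ≠ 1 := fun h => hw1.2.2.2 (eq_of_mul hq.two h).symm
  have h5 := hq.add u v w
  rw [hne _ (H.mul_mem hu hv) h1, hne _ (H.mul_mem hu hw) h2, hne _ (H.mul_mem hv hw) h3,
    hne u hu hu1, hne v hv hv1.1, hne w hw hw1.1] at h5
  have h6 : ∀ c : F, c + c + c + c + c + c = 0 := by decide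
  rw [h6] at h5
  exact h4 (hq.zero _ h5)

/-- number of elements of `H` in the fibre over `f` -/
noncomputable def num (q : V → F) (H : Subgroup V) (f : F) : ℕ := Nat.card {v : V // v ∈ H ∧ q v = f}

theorem sum_F (g : F → ℕ) : ∑ f : F, g f = g (0, 0, 0) + g (1, 0, 0) + g (0, 1, 0) + g (1, 1, 0) +
    g (0, 0, 1) + g (1, 0, 1) + g (0, 1, 1) + g (1, 1, 1) := by
  have h : (Finset.univ : Finset F) = {(0, 0, 0), (1, 0, 0), (0, 1, 0), (1, 1, 0), (0, 0, 1), (1, 0, 1),
    (0, 1, 1), (1, 1, 1)} := by decide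
  rw [h]
  repeat rw [Finset.sum_insert (by decide)]
  rw [Finset.sum_singleton]
  ring

theorem card_eq_sum (q : V → F) (H : Subgroup V) : Nat.card H = ∑ f : F, num q H f := by
  classical
  have := Fintype.ofFinite V
  have h1 : Nat.card H = (Finset.univ.filter (fun v : V => v ∈ H)).card := by
    rw [← Fintype.card_subtype, ← Nat.card_eq_fintype_card]
  have h2 : ∀ f, num q H f = ((Finset.univ.filter (fun v : V => v ∈ H)).filter (fun v => q v = f)).card := by
    intro f
    rw [Finset.filter_filter, ← Fintype.card_subtype, ← Nat.card_eq_fintype_card]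
    rfl
  rw [h1, Finset.card_eq_sum_card_fiberwise (f := q) (t := Finset.univ) (fun _ _ => Finset.mem_coe.2 (Finset.mem_univ _))]
  exact Finset.sum_congr rfl fun f _ => (h2 f).symm

theorem num_zero_of (q : V → F) (H : Subgroup V) (f : F) (h : ∀ v ∈ H, q v ≠ f) : num q H f = 0 := by
  unfold num
  have : IsEmpty {v : V // v ∈ H ∧ q v = f} := ⟨fun v => h v v.2.1 v.2.2⟩
  exact Nat.card_of_isEmpty

theorem Quad.num_zero {q : V → F} (hq : Quad q) (H : Subgroup V) : num q H (0, 0, 0) = 1 := by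
  unfold num
  rw [Nat.card_eq_one_iff_unique]
  constructor
  · constructor
    rintro ⟨v, hv⟩ ⟨w, hw⟩
    apply Subtype.ext
    change v = w
    rw [hq.zero v hv.2, hq.zero w hw.2]
  · exact ⟨⟨1, H.one_mem, hq.q1⟩⟩

theorem num_pos (q : V → F) {H : Subgroup V} {v : V} (hv : v ∈ H) : 0 < num q H (q v) := by
  unfold num
  have : Nonempty {w : V // w ∈ H ∧ q w = q v} := ⟨⟨v, hv, rfl⟩⟩
  exact Nat.card_pos

theorem exists_of_num_pos {q : V → F} {H : Subgroup V} {f : F} (h : 0 < num q H f) :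
    ∃ v ∈ H, q v = f := by
  unfold num at h
  obtain ⟨v⟩ := (Nat.card_pos_iff.1 h).1
  exact ⟨v, v.2.1, v.2.2⟩

theorem num_mono (q : V → F) {H K : Subgroup V} (h : H ≤ K) (f : F) : num q H f ≤ num q K f := by
  unfold num
  exact Nat.card_le_card_of_injective (fun v : {v : V // v ∈ H ∧ q v = f} =>
    (⟨v, h v.2.1, v.2.2⟩ : {v : V // v ∈ K ∧ q v = f})) (fun a b hab =>
      Subtype.ext (congrArg (fun c : {v : V // v ∈ K ∧ q v = f} => (c : V)) hab))

theorem eq_of_num_one {q : V → F} {H : Subgroup V} {f : F} (h : num q H f = 1) {v w : V} (hv : v ∈ H)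
    (hw : w ∈ H) (hqv : q v = f) (hqw : q w = f) : v = w := by
  unfold num at h
  have h1 := (Nat.card_eq_one_iff_unique.1 h).1
  exact congrArg Subtype.val (h1.allEq ⟨v, hv, hqv⟩ ⟨w, hw, hqw⟩)

/-- an automorphism preserving `H` transports fibres -/
theorem num_map {q : V → F} {H : Subgroup V} (σ : V →* V) (hinj : Function.Injective σ)
    (hH : ∀ v ∈ H, σ v ∈ H) (g : F → F) (hσ : ∀ v, q (σ v) = g (q v)) (f : F) :
    num q H f ≤ num q H (g f) := by
  unfold num
  exact Nat.card_le_card_of_injective (fun v : {v : V // v ∈ H ∧ q v = f} =>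
    (⟨σ v, hH v v.2.1, by rw [hσ, v.2.2]⟩ : {v : V // v ∈ H ∧ q v = g f})) (fun a b hab =>
      Subtype.ext (hinj (congrArg (fun c : {v : V // v ∈ H ∧ q v = g f} => (c : V)) hab)))

/-- parity -/
theorem num_fx_parity {q : V → F} {σ : V →* V} (h2 : ∀ v, σ (σ v) = v) (g : F → F)
    (hσ : ∀ v, q (σ v) = g (q v)) (f : F) (hf : g f = f) (hodd : Odd (num q (⊤ : Subgroup V) f)) :
    Odd (num q (fx σ) f) := by
  classical
  have h2' : Fact (Nat.Prime 2) := ⟨Nat.prime_two⟩
  have := Fintype.ofFinite V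
  let X := {v : V // v ∈ (⊤ : Subgroup V) ∧ q v = f}
  let φ : Function.End X := fun v => ⟨σ v, trivial, by rw [hσ, v.2.2, hf]⟩
  have hφ : φ ^ 2 ^ 1 = 1 := by
    rw [pow_one, pow_two]
    funext v
    apply Subtype.ext
    exact h2 v
  have h3 := Equiv.Perm.card_fixedPoints_modEq (α := X) (p := 2) (n := 1) hφ
  have h4 : Fintype.card (Function.fixedPoints φ) = num q (fx σ) f := by
    rw [← Nat.card_eq_fintype_card]
    unfold num
    refine Nat.card_congr ⟨fun v => ⟨(v : X).1, congrArg Subtype.val v.2, (v : X).2.2⟩,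
      fun v => ⟨⟨v, trivial, v.2.2⟩, Subtype.ext v.2.1⟩, fun _ => rfl, fun _ => rfl⟩
  have h5 : Fintype.card X = num q (⊤ : Subgroup V) f := by
    rw [← Nat.card_eq_fintype_card]
    rfl
  rw [h4, h5] at h3
  rw [Nat.odd_iff] at hodd ⊢
  rw [← hodd]
  exact h3.symm

/-- the polar form is compatible: `β(u, y (σ y)) = β(u,y) + g β(u,y)` for `u` fixed by `σ` -/
theorem Quad.polar {q : V → F} (hq : Quad q) {σ : V →* V} (g : F → F)
    (hg : ∀ x y, g (x + y) = g x + g y) (hσ : ∀ v, q (σ v) = g (q v)) {u : V} (hu : σ u = u) (y : V) :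
    q (u * (y * σ y)) + q u + q (y * σ y) =
      (q (u * y) + q u + q y) + g (q (u * y) + q u + q y) := by
  have h1 := hq.add u y (σ y)
  have h2 : q (u * σ y) = g (q (u * y)) := by rw [← hσ, map_mul, hu]
  have h3 : g (q u) = q u := by rw [← hσ, hu]
  rw [← mul_assoc, h1, h2, hσ y, hg, hg, h3]
  have hxx : ∀ x : F, x + x = 0 := by decide
  generalize q (u * y) = x1
  generalize g x1 = x2
  generalize q (y * σ y) = x3
  generalize q u = x4
  generalize q y = x5
  generalize g x5 = x6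
  have h4 : x1 + x2 + x3 + x4 + x5 + x6 + x4 + x3 = (x1 + x2 + x5 + x6) + (x3 + x3) + (x4 + x4) := by abel
  have h5 : x1 + x4 + x5 + (x2 + x4 + x6) = (x1 + x2 + x5 + x6) + (x4 + x4) := by abel
  rw [h4, h5, hxx, hxx, add_zero]

end Cfsg.Agent.RankThreeON.Pencil
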