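import Mathlib
import Cfsg.Agent.RankThreeON.Pencil

/-!
# `GL_3(2)`-invariant additive groups of endomorphisms of `F_2^3`

A non-zero set of endomorphisms of `F_2^3`, closed under addition and conjugation, contains the identity or the
element `D` of order 7 (`mem_of_ne_zero`).
-/

set_option autoImplicit false

namespace Cfsg.Agent.RankThreeON.EndL

open Pencil

/-- the endomorphism with given images of the basis vectors -/
def mk (c p r : F) : F →+ F where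
  toFun v := v.1 • c + v.2.1 • p + v.2.2 • r
  map_zero' := by
    simp
  map_add' v w := by
    simp only [Prod.fst_add, Prod.snd_add, add_smul]
    abel

theorem mk_apply (c p r v : F) : mk c p r v = v.1 • c + v.2.1 • p + v.2.2 • r := rfl

theorem map_eq (φ : F →+ F) (v : F) :
    φ v = v.1 • φ (1, 0, 0) + v.2.1 • φ (0, 1, 0) + v.2.2 • φ (0, 0, 1) := by
  have h2 : ∀ i : ZMod 2, i = 0 ∨ i = 1 := by decide
  have hv : v = v.1 • ((1, 0, 0) : F) + v.2.1 • ((0, 1, 0) : F) + v.2.2 • ((0, 0, 1) : F) := by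
    revert v; decide
  have hs : ∀ (i : ZMod 2) (w : F), φ (i • w) = i • φ w := by
    intro i w
    rcases h2 i with rfl | rfl
    · rw [zero_smul, zero_smul, map_zero]
    · rw [one_smul, one_smul]
  conv_lhs => rw [hv]
  rw [map_add, map_add, hs, hs, hs]

theorem eq_mk (φ : F →+ F) : φ = mk (φ (1, 0, 0)) (φ (0, 1, 0)) (φ (0, 0, 1)) :=
  AddMonoidHom.ext fun v => map_eq φ v

/-- additive equivalences from involutive maps -/
def eqv (f : F → F) (h : ∀ v, f (f v) = v) (ha : ∀ v w, f (v + w) = f v + f w) : F ≃+ F where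
  toFun := f
  invFun := f
  left_inv := h
  right_inv := h
  map_add' := ha

def eS : F ≃+ F := eqv mS (by decide) (by decide)
def eT : F ≃+ F := eqv mT (by decide) (by decide)
/-- exchange of `a` and `b` -/
def eAB : F ≃+ F := eqv sw (by decide) (by decide)
/-- exchange of `z` and `a` -/
def eZA : F ≃+ F := eqv (fun f => (f.2.1, f.1, f.2.2)) (by decide) (by decide)
/-- exchange of `z` and `b` -/
def eZB : F ≃+ F := eqv (fun f => (f.2.2, f.2.1, f.1)) (by decide) (by decide)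

/-- the element of order 7: `z ↦ a ↦ b ↦ z + a` -/
def mD (f : F) : F := (f.2.2, f.1 + f.2.2, f.2.1)

def D : F →+ F := mk (0, 1, 0) (0, 0, 1) (1, 1, 0)

theorem D_apply (v : F) : D v = mD v := by
  revert v; decide

/-- conjugation -/
def cj (σ : F ≃+ F) (φ : F →+ F) : F →+ F := σ.toAddMonoidHom.comp (φ.comp σ.symm.toAddMonoidHom)

theorem cj_apply (σ : F ≃+ F) (φ : F →+ F) (v : F) : cj σ φ v = σ (φ (σ.symm v)) := rfl

set_option synthInstance.maxHeartbeats 400000 in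
set_option synthInstance.maxSize 4000 in
theorem exists_third : ∀ x y : F, x ≠ 0 → y ≠ 0 → x ≠ y →
    ∃ w : F, w ≠ 0 ∧ w ≠ x ∧ w ≠ y ∧ w ≠ x + y := by
  decide

theorem exists_equiv3 {x y w : F} (hx : x ≠ 0) (hy : y ≠ 0) (hxy : x ≠ y) (hw : w ≠ 0) (hwx : w ≠ x)
    (hwy : w ≠ y) (hwxy : w ≠ x + y) :
    ∃ σ : F ≃+ F, σ (1, 0, 0) = x ∧ σ (0, 1, 0) = y ∧ σ (0, 0, 1) = w := by
  have h2 : ∀ i : ZMod 2, i = 0 ∨ i = 1 := by decide
  have hxx : ∀ x y : F, x + y = 0 → x = y := by decide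
  have hinj : Function.Injective (mk x y w) := by
    rw [injective_iff_map_eq_zero]
    rintro ⟨i, j, k⟩ hv
    rw [mk_apply] at hv
    change i • x + j • y + k • w = 0 at hv
    rcases h2 i with rfl | rfl <;> rcases h2 j with rfl | rfl <;> rcases h2 k with rfl | rfl <;>
      simp only [zero_smul, one_smul, zero_add, add_zero] at hv
    · rfl
    · exact absurd hv hw
    · exact absurd hv hy
    · exact absurd (hxx _ _ hv).symm hwy
    · exact absurd hv hx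
    · exact absurd (hxx _ _ hv).symm hwx
    · exact absurd (hxx _ _ hv) hxy
    · exact absurd (hxx _ _ hv).symm hwxy
  have hbij : Function.Bijective (mk x y w) := Finite.injective_iff_bijective.1 hinj
  refine ⟨AddEquiv.ofBijective (mk x y w) hbij, ?_, ?_, ?_⟩
  · change mk x y w (1, 0, 0) = x
    rw [mk_apply]
    simp
  · change mk x y w (0, 1, 0) = y
    rw [mk_apply]
    simp
  · change mk x y w (0, 0, 1) = w
    rw [mk_apply]
    simp

theorem exists_equiv {x y : F} (hx : x ≠ 0) (hy : y ≠ 0) (hxy : x ≠ y) :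
    ∃ σ : F ≃+ F, σ (1, 0, 0) = x ∧ σ (0, 1, 0) = y := by
  obtain ⟨w, hw, hwx, hwy, hwxy⟩ := exists_third x y hx hy hxy
  obtain ⟨σ, h1, h2, -⟩ := exists_equiv3 hx hy hxy hw hwx hwy hwxy
  exact ⟨σ, h1, h2⟩

/-- transitivity -/
theorem exists_map {x y : F} (hx : x ≠ 0) (hy : y ≠ 0) : ∃ σ : F ≃+ F, σ x = y := by
  have h1 : ∀ x : F, x ≠ 0 → (x ≠ (1, 0, 0)) ∨ (x ≠ (0, 1, 0)) := by decide
  have h2 : ∀ x : F, x ≠ 0 → ∃ σ : F ≃+ F, σ (1, 0, 0) = x := by
    intro x hx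
    rcases h1 x hx with h | h
    · obtain ⟨σ, h3, -⟩ := exists_equiv hx (by decide : ((1, 0, 0) : F) ≠ 0) h
      exact ⟨σ, h3⟩
    · obtain ⟨σ, h3, -⟩ := exists_equiv hx (by decide : ((0, 1, 0) : F) ≠ 0) h
      exact ⟨σ, h3⟩
  obtain ⟨σ, hσ⟩ := h2 x hx
  obtain ⟨τ, hτ⟩ := h2 y hy
  exact ⟨σ.symm.trans τ, by rw [AddEquiv.trans_apply, ← hσ, AddEquiv.symm_apply_apply, hτ]⟩

/-- moving a vector outside a plane while fixing the plane -/
theorem exists_move {x y w : F} (hx : x ≠ 0) (hy : y ≠ 0) (hxy : x ≠ y) (hw : w ≠ 0) (hwx : w ≠ x)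
    (hwy : w ≠ y) (hwxy : w ≠ x + y) : ∃ σ : F ≃+ F, σ x = x ∧ σ y = y ∧ σ w ≠ w := by
  obtain ⟨τ, h1, h2, h3⟩ := exists_equiv3 hx hy hxy hw hwx hwy hwxy
  have hτ1 : τ.symm x = (1, 0, 0) := by rw [← h1, AddEquiv.symm_apply_apply]
  have hτ2 : τ.symm y = (0, 1, 0) := by rw [← h2, AddEquiv.symm_apply_apply]
  have hτ3 : τ.symm w = (0, 0, 1) := by rw [← h3, AddEquiv.symm_apply_apply]
  refine ⟨(τ.symm.trans eS).trans τ, ?_, ?_, ?_⟩
  · rw [AddEquiv.trans_apply, AddEquiv.trans_apply, hτ1]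
    exact h1
  · rw [AddEquiv.trans_apply, AddEquiv.trans_apply, hτ2]
    exact h2
  · rw [AddEquiv.trans_apply, AddEquiv.trans_apply, hτ3]
    intro h4
    rw [← h3] at h4
    have h5 := τ.injective h4
    exact absurd h5 (by decide)

/-- the first step -/
theorem step {E : Set (F →+ F)} (hadd : ∀ φ ∈ E, ∀ ψ ∈ E, φ + ψ ∈ E)
    (hconj : ∀ (σ : F ≃+ F), ∀ φ ∈ E, cj σ φ ∈ E) {ψ : F →+ F} (hψ : ψ ∈ E)
    (hz : ψ (1, 0, 0) = (0, 1, 0)) :
    mk 0 ((ψ (0, 1, 0)).2.2, 0, 0) ((ψ (0, 0, 1)).2.2, 1, 0) ∈ E := by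
  have h1 := hadd _ hψ _ (hconj eS ψ hψ)
  have h2 : ψ + cj eS ψ = mk 0 ((ψ (0, 1, 0)).2.2, 0, 0) ((ψ (0, 0, 1)).2.2, 1, 0) := by
    have e1 : eS.symm (1, 0, 0) = (1, 0, 0) := rfl
    have e2 : eS.symm (0, 1, 0) = (0, 1, 0) := rfl
    have e3 : eS.symm (0, 0, 1) = (1, 0, 0) + (0, 0, 1) := rfl
    have e4 : ∀ x : F, x + eS x = (x.2.2, 0, 0) := by decide
    have e5 : ∀ x : F, x + eS ((0, 1, 0) + x) = (x.2.2, 1, 0) := by decide
    rw [eq_mk (ψ + cj eS ψ)]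
    congr 1
    · rw [AddMonoidHom.add_apply, cj_apply, e1, hz]
      rfl
    · rw [AddMonoidHom.add_apply, cj_apply, e2, e4]
    · rw [AddMonoidHom.add_apply, cj_apply, e3, map_add, hz, e5]
  rw [← h2]
  exact h1

theorem exists_rank_one {E : Set (F →+ F)} (hadd : ∀ φ ∈ E, ∀ ψ ∈ E, φ + ψ ∈ E)
    (hconj : ∀ (σ : F ≃+ F), ∀ φ ∈ E, cj σ φ ∈ E) {ψ : F →+ F} (hψ : ψ ∈ E)
    (hz : ψ (1, 0, 0) = (0, 1, 0)) : mk 0 0 (0, 1, 0) ∈ E := by
  have h2 : ∀ i : ZMod 2, i = 0 ∨ i = 1 := by decide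
  have h1 := step hadd hconj hψ hz
  have hfin : ∀ r : ZMod 2, mk 0 0 (r, 1, 0) ∈ E → mk 0 0 (0, 1, 0) ∈ E := by
    intro r hr
    rcases h2 r with rfl | rfl
    · exact hr
    · have h3 := hconj eT _ hr
      have h4 : cj eT (mk 0 0 (1, 1, 0)) = mk 0 0 (0, 1, 0) := by
        rw [eq_mk (cj eT _)]
        rfl
      rwa [h4] at h3
  rcases h2 (ψ (0, 1, 0)).2.2 with h3 | h3
  · rw [h3] at h1
    exact hfin _ h1
  · rw [h3] at h1
    generalize (ψ (0, 0, 1)).2.2 = r at h1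
    have h4 := hconj eZA _ h1
    have h5 : cj eZA (mk 0 (1, 0, 0) (r, 1, 0)) = mk (0, 1, 0) 0 (1, r, 0) := by
      rw [eq_mk (cj eZA _)]
      rcases h2 r with rfl | rfl <;> rfl
    rw [h5] at h4
    have h6 := step hadd hconj h4 (by rw [mk_apply]; simp)
    apply hfin 0
    have h7 : (mk (0, 1, 0) 0 (1, r, 0) (0, 1, 0)).2.2 = 0 := by
      rw [mk_apply]; simp
    have h8 : (mk (0, 1, 0) 0 (1, r, 0) (0, 0, 1)).2.2 = 0 := by
      rw [mk_apply]; simp
    rw [h7, h8] at h6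
    exact h6

/-- **Lemma E** -/
theorem mem_of_ne_zero {E : Set (F →+ F)} (hadd : ∀ φ ∈ E, ∀ ψ ∈ E, φ + ψ ∈ E)
    (hconj : ∀ (σ : F ≃+ F), ∀ φ ∈ E, cj σ φ ∈ E) {φ : F →+ F} (hφ : φ ∈ E) (h0 : φ ≠ 0) :
    AddMonoidHom.id F ∈ E ∨ D ∈ E := by
  by_cases hs : ∀ x, φ x = 0 ∨ φ x = x
  · left
    have h1 : φ = AddMonoidHom.id F := by
      have hz := hs (1, 0, 0)
      have ha := hs (0, 1, 0)
      have hb := hs (0, 0, 1)
      have hza := hs ((1, 0, 0) + (0, 1, 0))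
      have hzb := hs ((1, 0, 0) + (0, 0, 1))
      rw [map_add] at hza hzb
      rw [eq_mk φ] at h0 ⊢
      rcases hz with hz | hz <;> rcases ha with ha | ha <;> rcases hb with hb | hb <;>
        rw [hz, ha] at hza <;> rw [hz, hb] at hzb <;> rw [hz, ha, hb] at h0 ⊢ <;>
        first
          | exact absurd (AddMonoidHom.ext (by decide)) h0
          | exact AddMonoidHom.ext (by decide)
          | (exfalso; revert hza; decide)
          | (exfalso; revert hzb; decide)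
    rw [← h1]
    exact hφ
  · right
    push Not at hs
    obtain ⟨x, hx0, hxx⟩ := hs
    have hx : x ≠ 0 := fun h => hx0 (by rw [h, map_zero])
    obtain ⟨σ, h1, h2⟩ := exists_equiv hx hx0 (fun h => hxx h.symm)
    have h3 := hconj σ.symm φ hφ
    have h4 : cj σ.symm φ (1, 0, 0) = (0, 1, 0) := by
      rw [cj_apply, AddEquiv.symm_symm, h1, ← h2, AddEquiv.symm_apply_apply]
    have e1 := exists_rank_one hadd hconj h3 h4
    -- the elementary matrices
    have e2 : mk 0 0 (1, 0, 0) ∈ E := by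
      have h5 := hconj eZA _ e1
      have h6 : cj eZA (mk 0 0 (0, 1, 0)) = mk 0 0 (1, 0, 0) := by
        rw [eq_mk (cj eZA _)]
        rfl
      rwa [h6] at h5
    have e3 : mk 0 (0, 0, 1) 0 ∈ E := by
      have h5 := hconj eAB _ e1
      have h6 : cj eAB (mk 0 0 (0, 1, 0)) = mk 0 (0, 0, 1) 0 := by
        rw [eq_mk (cj eAB _)]
        rfl
      rwa [h6] at h5
    have e4 : mk (0, 1, 0) 0 0 ∈ E := by
      have h5 := hconj eZB _ e1
      have h6 : cj eZB (mk 0 0 (0, 1, 0)) = mk (0, 1, 0) 0 0 := by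
        rw [eq_mk (cj eZB _)]
        rfl
      rwa [h6] at h5
    have h7 := hadd _ e4 _ (hadd _ e3 _ (hadd _ e1 _ e2))
    have h8 : mk (0, 1, 0) 0 0 + (mk 0 (0, 0, 1) 0 + (mk 0 0 (0, 1, 0) + mk 0 0 (1, 0, 0))) = D :=
      AddMonoidHom.ext (by decide)
    rwa [h8] at h7

end Cfsg.Agent.RankThreeON.EndL
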