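import Mathlib
import Cfsg.Agent.RankThreeON.Pencil

/-!
# Anisotropic quadratic maps to `F_2^3`: `|V| ≤ 8`
-/

set_option autoImplicit false
set_option linter.unusedSectionVars false

namespace Cfsg.Agent.RankThreeON.Pencil

variable {V : Type*} [CommGroup V] [Finite V]

/-- two commuting involutions `s`, `t` above the transvections `S`, `T` with common centre -/
structure Half (q : V → F) (s t : V →* V) : Prop extends Quad q where
  ss : ∀ v, s (s v) = v
  tt : ∀ v, t (t v) = v
  st : ∀ v, s (t v) = t (s v)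
  qs : ∀ v, q (s v) = mS (q v)
  qt : ∀ v, q (t v) = mT (q v)

theorem inj_of_inv {σ : V →* V} (h : ∀ v, σ (σ v) = v) : Function.Injective σ := fun a b hab => by
  rw [← h a, hab, h b]

namespace Half

variable {q : V → F} {s t : V →* V}

theorem t_fx (h : Half q s t) : ∀ v ∈ fx s, t v ∈ fx s := by
  intro v hv
  rw [mem_fx] at hv ⊢
  rw [h.st, hv]

theorem q_fx (h : Half q s t) {v : V} (hv : v ∈ fx s) :
    q v = (0, 0, 0) ∨ q v = (1, 0, 0) ∨ q v = (0, 1, 0) ∨ q v = (1, 1, 0) := by
  have h1 : mS (q v) = q v := by rw [← h.qs, hv]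
  have h2 : ∀ f : F, mS f = f → f = (0, 0, 0) ∨ f = (1, 0, 0) ∨ f = (0, 1, 0) ∨ f = (1, 1, 0) := by
    decide
  exact h2 _ h1

theorem q_P (h : Half q s t) {v : V} (hv : v ∈ fx s ⊓ fx t) : q v = 0 ∨ q v = (1, 0, 0) := by
  have h1 : mS (q v) = q v := by rw [← h.qs, hv.1]
  have h3 : mT (q v) = q v := by rw [← h.qt, hv.2]
  have h2 : ∀ f : F, mS f = f → mT f = f → f = 0 ∨ f = (1, 0, 0) := by
    decide
  exact h2 _ h1 h3

theorem card_P_le (h : Half q s t) : Nat.card (fx s ⊓ fx t : Subgroup V) ≤ 4 :=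
  h.toQuad.card_le_four _ (1, 0, 0) (fun _ hv => h.q_P hv)

theorem card_fx_le (h : Half q s t) : Nat.card (fx s) ≤
    Nat.card (fx s ⊓ fx t : Subgroup V) * Nat.card (fx s ⊓ fx t : Subgroup V) :=
  card_le_sq h.two h.tt h.t_fx

theorem card_V_le (h : Half q s t) : Nat.card V ≤ Nat.card (fx s) * Nat.card (fx s) := by
  have h1 := card_le_sq (V := V) h.two h.ss (H := ⊤) (fun _ _ => trivial)
  rwa [top_inf_eq, Nat.card_congr Subgroup.topEquiv.toEquiv] at h1

theorem card_V_le' (h : Half q s t) : Nat.card V ≤ 256 := by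
  have h1 := h.card_V_le
  have h2 := h.card_fx_le
  have h3 := h.card_P_le
  have h4 : Nat.card (fx s ⊓ fx t : Subgroup V) * Nat.card (fx s ⊓ fx t : Subgroup V) ≤ 4 * 4 :=
    Nat.mul_le_mul h3 h3
  have h5 : Nat.card (fx s) * Nat.card (fx s) ≤ 16 * 16 := Nat.mul_le_mul (by omega) (by omega)
  omega

/-- the numerical part -/
theorem arith {x y k : ℕ} (hx : Odd x) (hy : Odd y) (hx9 : x ≤ 9) (hy9 : y ≤ 9) (hx3 : 3 ≤ x)
    (h : 2 ^ k = 1 + x + y + y) : 2 ^ k = 16 ∨ (2 ^ k = 8 ∧ y = 1) := by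
  have hk : k < 5 := by
    by_contra hcon
    push Not at hcon
    have : 2 ^ 5 ≤ 2 ^ k := Nat.pow_le_pow_right (by norm_num) hcon
    omega
  obtain ⟨x', rfl⟩ := hx
  obtain ⟨y', rfl⟩ := hy
  interval_cases k <;> omega

theorem card_fx (h : Half q s t) (hV : Nat.card V = 64)
    (hm : ∀ f : F, f ≠ 0 → num q (⊤ : Subgroup V) f = 9) :
    Nat.card (fx s) = 16 ∧ Nat.card (fx s ⊓ fx t : Subgroup V) = 4 := by
  classical
  have h8 : 8 ≤ Nat.card (fx s) := by
    have h1 := h.card_V_le
    rw [hV] at h1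
    by_contra hcon
    push Not at hcon
    have : Nat.card (fx s) * Nat.card (fx s) ≤ 7 * 7 := Nat.mul_le_mul (by omega) (by omega)
    omega
  have hP : Nat.card (fx s ⊓ fx t : Subgroup V) = 4 := by
    have h1 := h.card_fx_le
    have h2 := h.card_P_le
    obtain ⟨n, hn⟩ := card_pow h.two (fx s ⊓ fx t : Subgroup V)
    rw [hn] at h1 h2 ⊢
    have hn3 : n < 3 := by
      by_contra hcon
      push Not at hcon
      have : 2 ^ 3 ≤ 2 ^ n := Nat.pow_le_pow_right (by norm_num) hcon
      omega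
    interval_cases n <;> omega
  refine ⟨?_, hP⟩
  set nz := num q (fx s) (1, 0, 0) with hnz
  set na := num q (fx s) (0, 1, 0) with hna
  set nb := num q (fx s) (1, 1, 0) with hnb
  have hpar : ∀ f : F, f ≠ 0 → mS f = f → Odd (num q (fx s) f) ∧ num q (fx s) f ≤ 9 := by
    intro f hf hff
    refine ⟨num_fx_parity h.ss mS h.qs f hff ?_, ?_⟩
    · rw [hm f hf]; decide
    · rw [← hm f hf]
      exact num_mono q le_top f
  have hz := hpar (1, 0, 0) (by decide) (by decide)
  have ha := hpar (0, 1, 0) (by decide) (by decide)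
  have hb := hpar (1, 1, 0) (by decide) (by decide)
  have hab : na = nb := by
    apply le_antisymm
    · exact num_map t (inj_of_inv h.tt) h.t_fx mT h.qt (0, 1, 0)
    · exact num_map t (inj_of_inv h.tt) h.t_fx mT h.qt (1, 1, 0)
  have hzero : ∀ f : F, f ≠ (0, 0, 0) → f ≠ (1, 0, 0) → f ≠ (0, 1, 0) → f ≠ (1, 1, 0) →
      num q (fx s) f = 0 := by
    intro f h1 h2 h3 h4
    apply num_zero_of
    intro v hv hvf
    rcases h.q_fx hv with h5 | h5 | h5 | h5 <;> rw [hvf] at h5
    · exact h1 h5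
    · exact h2 h5
    · exact h3 h5
    · exact h4 h5
  have hsum : Nat.card (fx s) = 1 + nz + na + nb := by
    rw [card_eq_sum q, sum_F, h.toQuad.num_zero, hzero (0, 0, 1) (by decide) (by decide) (by decide) (by decide),
      hzero (1, 0, 1) (by decide) (by decide) (by decide) (by decide),
      hzero (0, 1, 1) (by decide) (by decide) (by decide) (by decide),
      hzero (1, 1, 1) (by decide) (by decide) (by decide) (by decide)]
    simp only [add_zero]
    rfl
  have hz3 : 3 ≤ nz := by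
    have h1 : Nat.card (fx s ⊓ fx t : Subgroup V) = 1 + num q (fx s ⊓ fx t) (1, 0, 0) := by
      have h2 : ∀ f : F, f ≠ 0 → f ≠ (1, 0, 0) → num q (fx s ⊓ fx t) f = 0 := by
        intro f h1 h2
        apply num_zero_of
        intro v hv hvf
        rcases h.q_P hv with h5 | h5 <;> rw [hvf] at h5
        · exact h1 h5
        · exact h2 h5
      rw [card_eq_sum q, sum_F, h.toQuad.num_zero, h2 (0, 1, 0) (by decide) (by decide),
        h2 (1, 1, 0) (by decide) (by decide), h2 (0, 0, 1) (by decide) (by decide),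
        h2 (1, 0, 1) (by decide) (by decide), h2 (0, 1, 1) (by decide) (by decide),
        h2 (1, 1, 1) (by decide) (by decide)]
      simp only [add_zero]
    have h3 : num q (fx s ⊓ fx t) (1, 0, 0) ≤ nz := num_mono q inf_le_left _
    omega
  obtain ⟨k, hk⟩ := card_pow h.two (fx s)
  rw [hk]
  rw [hk, ← hab] at hsum
  rcases arith hz.1 ha.1 hz.2 ha.2 hz3 hsum with h16 | ⟨h8', hy⟩
  · exact h16
  exfalso
  have hb1 : nb = 1 := by rw [← hab]; exact hy
  obtain ⟨u, hu, hqu⟩ := exists_of_num_pos (q := q) (H := fx s) (f := (0, 1, 0)) (by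
    change 0 < na; omega)
  obtain ⟨u', hu', hqu'⟩ := exists_of_num_pos (q := q) (H := fx s) (f := (1, 1, 0)) (by
    change 0 < nb; omega)
  obtain ⟨w, hw, hw1⟩ := exists_notMem (fx s ⊓ fx t) {1, u * u'} ((Finset.card_le_two).trans_lt (by
    rw [hP]; norm_num))
  simp only [Finset.mem_insert, Finset.mem_singleton, not_or] at hw1
  have hqw : q w = (1, 0, 0) := (h.q_P hw).resolve_left (fun h1 => hw1.1 (h.zero w h1))
  have huw : u * w ∈ fx s := (fx s).mul_mem hu hw.1
  have hquw : q (u * w) = (1, 0, 0) := by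
    rcases h.q_fx huw with h5 | h5 | h5 | h5
    · have h6 := eq_of_mul h.two (h.zero _ h5)
      rw [h6, hqw] at hqu
      exact absurd hqu (by decide)
    · exact h5
    · have h6 := eq_of_num_one hy hu huw hqu h5
      exact absurd (by simpa using h6) hw1.1
    · have h6 := eq_of_num_one hb1 hu' huw hqu' h5
      exact absurd (by rw [h6, ← mul_assoc, h.two, one_mul]) hw1.2
  -- `w = y (s y)`
  have hmap : (⊤ : Subgroup V).map (br s) = fx s := by
    refine Subgroup.eq_of_le_of_card_ge ?_ ?_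
    · have := map_br_le h.two h.ss (H := ⊤) (fun _ _ => trivial)
      rwa [top_inf_eq] at this
    · have h1 := card_split h.two s ⊤
      rw [top_inf_eq, Nat.card_congr Subgroup.topEquiv.toEquiv, hV, hk, h8'] at h1
      rw [hk, h8']
      omega
  have hw2 : w ∈ (⊤ : Subgroup V).map (br s) := by rw [hmap]; exact hw.1
  obtain ⟨y, -, hy2⟩ := hw2
  rw [br_apply] at hy2
  have hp := h.toQuad.polar mS (by decide) h.qs hu y
  rw [hy2, hquw, hqu, hqw] at hp
  have h9 : ∀ X : F, ((1, 0, 0) : F) + (0, 1, 0) + (1, 0, 0) ≠ X + mS X := by decide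
  exact h9 _ hp

theorem swap (h : Half q s t) : Half (fun v => sw (q v)) t s where
  two := h.two
  zero v hv := h.zero v (by
    have : ∀ f : F, sw f = 0 → f = 0 := by decide
    exact this _ hv)
  q1 := by
    rw [h.q1]; rfl
  add u v w := by
    rw [h.add]
    rfl
  ss := h.tt
  tt := h.ss
  st v := (h.st v).symm
  qs v := by
    rw [h.qt]
    rfl
  qt v := by
    rw [h.qs]
    rfl

theorem num_swap (q : V → F) (H : Subgroup V) (f : F) :
    num (fun v => sw (q v)) H f = num q H (sw f) := by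
  unfold num
  have hsw : ∀ f : F, sw (sw f) = f := fun f => rfl
  refine Nat.card_congr ⟨fun v => ⟨v, v.2.1, ?_⟩, fun v => ⟨v, v.2.1, ?_⟩, fun _ => rfl, fun _ => rfl⟩
  · have h1 : sw (q v) = f := v.2.2
    have h2 := congrArg sw h1
    rwa [hsw] at h2
  · have h1 : q v = sw f := v.2.2
    have h2 := congrArg sw h1
    rwa [hsw] at h2

theorem card_fx' (h : Half q s t) (hV : Nat.card V = 64)
    (hm : ∀ f : F, f ≠ 0 → num q (⊤ : Subgroup V) f = 9) : Nat.card (fx t) = 16 := by
  refine (h.swap.card_fx hV ?_).1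
  intro f hf
  rw [num_swap]
  apply hm
  revert f
  decide

/-- `[V,s] = C_V(s,t)` -/
theorem map_br (h : Half q s t) (hV : Nat.card V = 64)
    (hm : ∀ f : F, f ≠ 0 → num q (⊤ : Subgroup V) f = 9) :
    (⊤ : Subgroup V).map (br s) = fx s ⊓ fx t := by
  have h1 := h.card_fx hV hm
  have h2 := h.card_fx' hV hm
  have h3 : Nat.card ((⊤ : Subgroup V).map (br s)) = 4 := by
    have := card_split h.two s ⊤
    rw [top_inf_eq, Nat.card_congr Subgroup.topEquiv.toEquiv, hV, h1.1] at this
    omega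
  have h4 : Nat.card ((fx t).map (br s)) = 4 := by
    have := card_split h.two s (fx t)
    rw [inf_comm, h1.2, h2] at this
    omega
  have h5 : (fx t).map (br s) = fx t ⊓ fx s := by
    refine Subgroup.eq_of_le_of_card_ge (map_br_le h.two h.ss ?_) ?_
    · intro v hv
      rw [mem_fx] at hv ⊢
      rw [← h.st, hv]
    · rw [h4, inf_comm, h1.2]
  have h6 : (fx t).map (br s) = (⊤ : Subgroup V).map (br s) := by
    refine Subgroup.eq_of_le_of_card_ge (Subgroup.map_mono le_top) ?_
    rw [h3, h4]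
  rw [← h6, h5, inf_comm]

end Half

/-- the configuration -/
structure Conf (q : V → F) (s t t' k : V →* V) : Prop extends Half q s t where
  tt' : ∀ v, t' (t' v) = v
  st' : ∀ v, s (t' v) = t' (s v)
  ks : ∀ v, k (s v) = t' (k v)
  kt' : ∀ v, k (t' v) = s (t' (k v))
  qt' : ∀ v, q (t' v) = mT' (q v)
  qk : ∀ v, q (k v) = mK (q v)

namespace Conf

variable {q : V → F} {s t t' k : V →* V}

theorem k_inj (h : Conf q s t t' k) : Function.Injective k := by
  rw [injective_iff_map_eq_one]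
  intro v hv
  apply h.zero
  have h1 : mK (q v) = 0 := by rw [← h.qk, hv, h.q1]
  have h2 : ∀ f : F, mK f = 0 → f = 0 := by decide
  exact h2 _ h1

theorem not_64 (h : Conf q s t t' k) (hV : Nat.card V = 64)
    (hm : ∀ f : F, f ≠ 0 → num q (⊤ : Subgroup V) f = 9) : False := by
  classical
  have h1 := h.toHalf.card_fx hV hm
  have hbs := h.toHalf.map_br hV hm
  have ksur : Function.Surjective k := Finite.surjective_of_injective h.k_inj
  -- the range of `br s`
  have hrs : ∀ v ∈ (⊤ : Subgroup V).map (br s), q v = 0 ∨ q v = (1, 0, 0) := by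
    rw [hbs]
    exact fun v hv => h.toHalf.q_P hv
  have hcs : Nat.card ((⊤ : Subgroup V).map (br s)) = 4 := by rw [hbs, h1.2]
  -- transport by `k`
  have hkm : ((⊤ : Subgroup V).map (br s)).map k = (⊤ : Subgroup V).map (br t') := by
    ext v
    constructor
    · rintro ⟨_, ⟨w, -, rfl⟩, rfl⟩
      refine ⟨k w, trivial, ?_⟩
      rw [br_apply, br_apply, map_mul, h.ks]
    · rintro ⟨w, -, rfl⟩
      obtain ⟨w', rfl⟩ := ksur w
      refine ⟨br s w', ⟨w', trivial, rfl⟩, ?_⟩
      rw [br_apply, br_apply, map_mul, h.ks]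
  have hct : Nat.card ((⊤ : Subgroup V).map (br t')) = 4 := by
    rw [← hkm, Subgroup.card_map_of_injective h.k_inj, hcs]
  have hrt : ∀ v ∈ (⊤ : Subgroup V).map (br t'), q v = 0 ∨ q v = (0, 1, 0) := by
    rw [← hkm]
    rintro _ ⟨v, hv, rfl⟩
    rw [h.qk]
    rcases hrs v hv with h2 | h2 <;> rw [h2]
    · left; rfl
    · right; rfl
  have hft : Nat.card (fx t') = 16 := by
    have := card_split h.two t' ⊤
    rw [top_inf_eq, Nat.card_congr Subgroup.topEquiv.toEquiv, hV, hct] at this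
    omega
  -- `Q`
  set Q : Subgroup V := fx s ⊓ fx t' with hQ
  have hkQ : ∀ v ∈ Q, k v ∈ Q := by
    intro v hv
    have hv1 : s v = v := (Subgroup.mem_inf.1 hv).1
    have hv2 : t' v = v := (Subgroup.mem_inf.1 hv).2
    have h3 : t' (k v) = k v := by rw [← h.ks, hv1]
    refine Subgroup.mem_inf.2 ⟨?_, h3⟩
    have h4 := h.kt' v
    rw [hv2, h3] at h4
    exact h4.symm
  have hqQ : ∀ v ∈ Q, q v = (0, 0, 0) ∨ q v = (1, 0, 0) ∨ q v = (0, 1, 0) ∨ q v = (1, 1, 0) :=
    fun v hv => h.toHalf.q_fx hv.1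
  have hzero : ∀ f : F, f ≠ (0, 0, 0) → f ≠ (1, 0, 0) → f ≠ (0, 1, 0) → f ≠ (1, 1, 0) →
      num q Q f = 0 := by
    intro f h1 h2 h3 h4
    apply num_zero_of
    intro v hv hvf
    rcases hqQ v hv with h5 | h5 | h5 | h5 <;> rw [hvf] at h5
    · exact h1 h5
    · exact h2 h5
    · exact h3 h5
    · exact h4 h5
  have e1 : num q Q (1, 0, 0) ≤ num q Q (0, 1, 0) := num_map k h.k_inj hkQ mK h.qk (1, 0, 0)
  have e2 : num q Q (0, 1, 0) ≤ num q Q (1, 1, 0) := num_map k h.k_inj hkQ mK h.qk (0, 1, 0)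
  have e3 : num q Q (1, 1, 0) ≤ num q Q (1, 0, 0) := num_map k h.k_inj hkQ mK h.qk (1, 1, 0)
  have hsum : Nat.card Q = 1 + num q Q (1, 0, 0) + num q Q (0, 1, 0) + num q Q (1, 1, 0) := by
    rw [card_eq_sum q, sum_F, h.toQuad.num_zero, hzero (0, 0, 1) (by decide) (by decide) (by decide) (by decide),
      hzero (1, 0, 1) (by decide) (by decide) (by decide) (by decide),
      hzero (0, 1, 1) (by decide) (by decide) (by decide) (by decide),
      hzero (1, 1, 1) (by decide) (by decide) (by decide) (by decide)]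
    simp only [add_zero]
  -- size of `Q`
  have hs' : ∀ v ∈ fx s, t' v ∈ fx s := by
    intro v hv
    rw [mem_fx] at hv ⊢
    rw [h.st', hv]
  have hQ2 : Nat.card (fx s) ≤ Nat.card Q * Nat.card Q := card_le_sq h.two h.tt' hs'
  have hQs : Nat.card Q * Nat.card ((fx s).map (br t')) = 16 := by
    rw [← h1.1]
    exact card_split h.two t' (fx s)
  have hmle : (fx s).map (br t') ≤ Q := map_br_le h.two h.tt' hs'
  have hcases : (Nat.card Q = 4 ∧ Nat.card ((fx s).map (br t')) = 4) ∨ Nat.card Q = 16 := by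
    obtain ⟨n, hn⟩ := card_pow h.two Q
    have h5 : Nat.card Q ∣ 16 := ⟨_, hQs.symm⟩
    have hn5 : n < 5 := by
      by_contra hcon
      push Not at hcon
      have h6 : 2 ^ 5 ≤ 2 ^ n := Nat.pow_le_pow_right (by norm_num) hcon
      have h7 := Nat.le_of_dvd (by norm_num) h5
      omega
    rw [h1.1] at hQ2
    rw [hn] at hQ2 hsum hQs ⊢
    interval_cases n <;> omega
  rcases hcases with ⟨hc4, hm4⟩ | hc16
  · -- `|Q| = 4`
    have h5 : (fx s).map (br t') = (⊤ : Subgroup V).map (br t') :=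
      Subgroup.eq_of_le_of_card_ge (Subgroup.map_mono le_top) (by rw [hct, hm4])
    have h6 : (⊤ : Subgroup V).map (br t') = Q := by
      rw [← h5]
      exact Subgroup.eq_of_le_of_card_ge hmle (by rw [hm4, hc4])
    have h7 : num q Q (1, 0, 0) = 0 := by
      apply num_zero_of
      intro v hv hvf
      rw [← h6] at hv
      rcases hrt v hv with h8 | h8 <;> rw [hvf] at h8 <;> exact absurd h8 (by decide)
    omega
  · -- `|Q| = 16`
    have hQs' : Q = fx s := Subgroup.eq_of_le_of_card_ge inf_le_left (by rw [hc16, h1.1])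
    have hQt' : Q = fx t' := Subgroup.eq_of_le_of_card_ge inf_le_right (by rw [hc16, hft])
    have hle1 : (⊤ : Subgroup V).map (br s) ≤ Q := by
      rw [hbs, hQs']; exact inf_le_left
    have hle2 : (⊤ : Subgroup V).map (br t') ≤ Q := by
      have := map_br_le h.two h.tt' (H := ⊤) (fun _ _ => trivial)
      rw [top_inf_eq] at this
      rw [hQt']; exact this
    -- products
    have hprod : ∀ p ∈ (⊤ : Subgroup V).map (br s), ∀ p' ∈ (⊤ : Subgroup V).map (br t'), p ≠ 1 → p' ≠ 1 →
        q (p' * p) = (1, 1, 0) := by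
      intro p hp p' hp' hp1 hp1'
      have hqp : q p = (1, 0, 0) := (hrs p hp).resolve_left (fun h5 => hp1 (h.zero p h5))
      have hqp' : q p' = (0, 1, 0) := (hrt p' hp').resolve_left (fun h5 => hp1' (h.zero p' h5))
      have hps : t' p = p := by
        have : p ∈ fx t' := by rw [← hQt']; exact hle1 hp
        exact this
      have hps' : s p' = p' := by
        have : p' ∈ fx s := by rw [← hQs']; exact hle2 hp'
        exact this
      obtain ⟨y, -, rfl⟩ := hp
      obtain ⟨y', -, rfl⟩ := hp'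
      have h5 := h.toQuad.polar mS (by decide) h.qs hps' y
      have h6 := h.toQuad.polar mT' (by decide) h.qt' hps y'
      rw [← br_apply] at h5 h6
      rw [mul_comm (br s y) (br t' y')] at h6
      rw [hqp, hqp'] at h5 h6
      have h7 : ∀ X Y W : F, X + (0, 1, 0) + (1, 0, 0) = Y + mS Y → X + (1, 0, 0) + (0, 1, 0) = W + mT' W →
          X = (1, 1, 0) := by
        intro X Y W hX hW
        have e1 : ∀ Y : F, (Y + mS Y).2.1 = 0 ∧ (Y + mS Y).2.2 = 0 := by decide
        have e2 : ∀ Y : F, (Y + mT' Y).1 = 0 ∧ (Y + mT' Y).2.2 = 0 := by decide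
        have e3 := e1 Y
        have e4 := e2 W
        rw [← hX] at e3
        rw [← hW] at e4
        have e5 : ∀ X : F, ((X + (0, 1, 0) + (1, 0, 0)).2.1 = 0 ∧ (X + (0, 1, 0) + (1, 0, 0)).2.2 = 0) →
            ((X + (1, 0, 0) + (0, 1, 0)).1 = 0 ∧ (X + (1, 0, 0) + (0, 1, 0)).2.2 = 0) → X = (1, 1, 0) := by
          decide
        exact e5 X e3 e4
      exact h7 _ _ _ h5 h6
    -- nine elements
    have h9 : 9 ≤ num q Q (1, 1, 0) := by
      let P1 := {p : ((⊤ : Subgroup V).map (br s) : Subgroup V) // p ≠ 1}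
      let P2 := {p : ((⊤ : Subgroup V).map (br t') : Subgroup V) // p ≠ 1}
      have c1 : Nat.card P1 = 3 := by
        have := Fintype.ofFinite ((⊤ : Subgroup V).map (br s) : Subgroup V)
        have e := Fintype.card_subtype_compl (fun p : ((⊤ : Subgroup V).map (br s) : Subgroup V) => p = 1)
        rw [Nat.card_eq_fintype_card]
        change Fintype.card {p : ((⊤ : Subgroup V).map (br s) : Subgroup V) // ¬ p = 1} = 3
        rw [e, Fintype.card_subtype_eq, ← Nat.card_eq_fintype_card, hcs]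
      have c2 : Nat.card P2 = 3 := by
        have := Fintype.ofFinite ((⊤ : Subgroup V).map (br t') : Subgroup V)
        have e := Fintype.card_subtype_compl (fun p : ((⊤ : Subgroup V).map (br t') : Subgroup V) => p = 1)
        rw [Nat.card_eq_fintype_card]
        change Fintype.card {p : ((⊤ : Subgroup V).map (br t') : Subgroup V) // ¬ p = 1} = 3
        rw [e, Fintype.card_subtype_eq, ← Nat.card_eq_fintype_card, hct]
      have c3 : Nat.card (P1 × P2) = 9 := by rw [Nat.card_prod, c1, c2]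
      rw [← c3]
      unfold num
      have hne1 : ∀ p : P1, (p.1 : V) ≠ 1 := fun p h5 => p.2 (Subtype.ext h5)
      have hne2 : ∀ p : P2, (p.1 : V) ≠ 1 := fun p h5 => p.2 (Subtype.ext h5)
      refine Nat.card_le_card_of_injective (fun x : P1 × P2 =>
        (⟨(x.2.1 : V) * (x.1.1 : V), Q.mul_mem (hle2 x.2.1.2) (hle1 x.1.1.2),
          hprod _ x.1.1.2 _ x.2.1.2 (hne1 x.1) (hne2 x.2)⟩ : {v : V // v ∈ Q ∧ q v = (1, 1, 0)})) ?_
      rintro ⟨x, y⟩ ⟨x', y'⟩ hxy
      have h5 : (y.1 : V) * x.1 = y'.1 * x'.1 := congrArg (fun c : {v : V // v ∈ Q ∧ q v = (1, 1, 0)} => (c : V)) hxy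
      have h6 : (y'.1 : V)⁻¹ * y.1 = x'.1 * (x.1 : V)⁻¹ := by
        rw [inv_mul_eq_iff_eq_mul, ← mul_assoc, ← h5, mul_inv_cancel_right]
      have h7 : (y'.1 : V)⁻¹ * y.1 ∈ (⊤ : Subgroup V).map (br t') :=
        Subgroup.mul_mem _ (Subgroup.inv_mem _ y'.1.2) y.1.2
      have h8 : (y'.1 : V)⁻¹ * y.1 ∈ (⊤ : Subgroup V).map (br s) := by
        rw [h6]
        exact Subgroup.mul_mem _ x'.1.2 (Subgroup.inv_mem _ x.1.2)
      have h9 : (y'.1 : V)⁻¹ * y.1 = 1 := by
        apply h.zero
        rcases hrs _ h8 with e | e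
        · exact e
        · rcases hrt _ h7 with e' | e'
          · exact e'
          · rw [e] at e'
            exact absurd e' (by decide)
      have h10 : (y.1 : V) = y'.1 := (inv_mul_eq_one.1 h9).symm
      have h11 : (x.1 : V) = x'.1 := by
        rw [h9] at h6
        exact (mul_inv_eq_one.1 h6.symm).symm
      exact Prod.ext (Subtype.ext (Subtype.ext h11)) (Subtype.ext (Subtype.ext h10))
    omega

/-- **`|V| ≤ 8`** -/
theorem card_le (h : Conf q s t t' k) (m : ℕ) (hm : ∀ f : F, f ≠ 0 → num q (⊤ : Subgroup V) f = m) :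
    Nat.card V = 1 ∨ (Nat.card V = 8 ∧ m = 1) := by
  have h1 : Nat.card V = 1 + 7 * m := by
    have h2 := card_eq_sum q (⊤ : Subgroup V)
    rw [Nat.card_congr Subgroup.topEquiv.toEquiv, sum_F, h.toQuad.num_zero, hm _ (by decide), hm _ (by decide),
      hm _ (by decide), hm _ (by decide), hm _ (by decide), hm _ (by decide), hm _ (by decide)] at h2
    omega
  have h3 := h.toHalf.card_V_le'
  obtain ⟨n, hn⟩ := card_pow h.two (⊤ : Subgroup V)
  rw [Nat.card_congr Subgroup.topEquiv.toEquiv] at hn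
  have hn9 : n < 9 := by
    by_contra hcon
    push Not at hcon
    have h6 : 2 ^ 9 ≤ 2 ^ n := Nat.pow_le_pow_right (by norm_num) hcon
    omega
  have h4 : Nat.card V ≠ 64 := by
    intro h64
    refine h.not_64 h64 (fun f hf => ?_)
    rw [hm f hf]
    omega
  rw [hn] at h1 h4 ⊢
  interval_cases n <;> omega

end Conf

end Cfsg.Agent.RankThreeON.Pencil
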