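import Mathlib
import Cfsg.Agent.StdL2.G23Aut
import Cfsg.Agent.TwoFusion.HaradaSetup
import Cfsg.Agent.TwoFusion.GoldJBasic
import Cfsg.Agent.RankThreeON.PencilMain
import Cfsg.Agent.RankThreeON.EndL

/-!
# Frame of S1730 [ON]: setup

`T` is a 2-group whose involutions form with `1` a central subgroup `A` of order 8; `N` normalises `T` and induces
all automorphisms of `A`; `T` is the largest 2-subgroup of `C_N(A)`.
-/

set_option autoImplicit false

namespace Cfsg.Agent.RankThreeON.Setup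

open Subgroup Pencil EndL
open Cfsg.Agent.StdL2

variable {G : Type*} [Group G]

/-- the hypotheses -/
structure FH (A T N : Subgroup G) : Prop where
  oct : G23Aut.Oct A
  pT : IsPGroup 2 T
  AT : A ≤ T
  om : ∀ t ∈ T, t * t = 1 → t ∈ A
  cen : ∀ t ∈ T, ∀ a ∈ A, t * a = a * t
  TN : T ≤ N
  NT : N ≤ normalizer (T : Set G)
  full : G23Aut.Full N A
  syl : ∀ P : Subgroup G, IsPGroup 2 P → P ≤ N → P ≤ centralizer (A : Set G) → P ≤ T

/-- coordinates on `A` -/
structure Crd (A : Subgroup G) (e : F → G) (l : G → F) : Prop where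
  mem : ∀ f, e f ∈ A
  el : ∀ a ∈ A, e (l a) = a
  le : ∀ f, l (e f) = f
  add : ∀ f g, e (f + g) = e f * e g

namespace Crd

variable {A : Subgroup G} {e : F → G} {l : G → F}

theorem ladd (c : Crd A e l) {x y : G} (hx : x ∈ A) (hy : y ∈ A) : l (x * y) = l x + l y := by
  have h1 : x * y = e (l x + l y) := by rw [c.add, c.el x hx, c.el y hy]
  rw [h1, c.le]

theorem e0 (c : Crd A e l) : e 0 = 1 := by
  have h := c.add 0 0
  rw [add_zero] at h
  exact left_eq_mul.1 h

theorem l1 (c : Crd A e l) : l 1 = 0 := by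
  rw [← c.e0, c.le]

theorem l_inj (c : Crd A e l) {x y : G} (hx : x ∈ A) (hy : y ∈ A) (h : l x = l y) : x = y := by
  rw [← c.el x hx, h, c.el y hy]

theorem eq_one (c : Crd A e l) {x : G} (hx : x ∈ A) (h : l x = 0) : x = 1 :=
  c.l_inj hx A.one_mem (by rw [h, c.l1])

theorem e_ne (c : Crd A e l) {f : F} (h : f ≠ 0) : e f ≠ 1 := fun h1 => h (by
  rw [← c.le f, h1, c.l1])

/-- an element inducing `σ` on the coordinates -/
theorem l_conj (c : Crd A e l) {n : G} {σ : F → F} (hn : ∀ f, n * e f * n⁻¹ = e (σ f)) {x : G}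
    (hx : x ∈ A) : l (n * x * n⁻¹) = σ (l x) := by
  rw [← c.el x hx, hn, c.le, c.le]

end Crd

theorem exists_crd {A : Subgroup G} (h : G23Aut.Oct A) [Finite G] : ∃ (e : F → G) (l : G → F), Crd A e l := by
  classical
  obtain ⟨x, hx, y, hy, w, hw, hb⟩ : ∃ x ∈ A, ∃ y ∈ A, ∃ w ∈ A, G23Aut.Bas A x y w := by
    have hne : ∀ s : Finset G, s.card < 8 → ∃ v ∈ A, v ∉ s := by
      intro s hs
      by_contra hcon
      push Not at hcon
      have h1 : Nat.card A ≤ Nat.card (s : Set G) :=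
        Nat.card_le_card_of_injective (fun v : A => (⟨v, hcon v v.2⟩ : (s : Set G)))
          (fun a b hab => Subtype.ext (congrArg (fun c : (s : Set G) => (c : G)) hab))
      have h2 : Nat.card (s : Set G) = s.card := by
        rw [Nat.card_eq_fintype_card]
        simp
      rw [h.card] at h1
      omega
    obtain ⟨x, hx, hx1⟩ := hne {1} (by rw [Finset.card_singleton]; norm_num)
    obtain ⟨y, hy, hy1⟩ := hne {1, x} ((Finset.card_le_two).trans_lt (by norm_num))
    obtain ⟨w, hw, hw1⟩ := hne {1, x, y, x * y} ((Finset.card_le_four).trans_lt (by norm_num))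
    simp only [Finset.mem_singleton] at hx1
    simp only [Finset.mem_insert, Finset.mem_singleton, not_or] at hy1 hw1
    exact ⟨x, hx, y, hy, w, hw, hx, hy, hw, hx1, hy1.1, hy1.2, hw1.1, hw1.2.1, hw1.2.2.1, hw1.2.2.2⟩
  obtain ⟨E, hE⟩ := hb.exists_equiv h
  refine ⟨fun f => (E (Multiplicative.ofAdd f) : G), fun g => if hg : g ∈ A then
    Multiplicative.toAdd (E.symm ⟨g, hg⟩) else 0, ?_, ?_, ?_, ?_⟩
  · intro f
    exact (E _).2
  · intro a ha
    rw [dif_pos ha, ofAdd_toAdd, MulEquiv.apply_symm_apply]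
  · intro f
    have h1 : (⟨((E (Multiplicative.ofAdd f) : A) : G), (E _).2⟩ : A) = E (Multiplicative.ofAdd f) := rfl
    rw [dif_pos (E _).2, h1, MulEquiv.symm_apply_apply, toAdd_ofAdd]
  · intro f g
    rw [ofAdd_add, map_mul]
    rfl

namespace FH

variable {A T N : Subgroup G}

theorem NA (h : FH A T N) {n a : G} (hn : n ∈ N) (ha : a ∈ A) : n * a * n⁻¹ ∈ A := by
  refine h.om _ ((mem_normalizer_iff.1 (h.NT hn) a).1 (h.AT ha)) ?_
  have h1 : n * a * n⁻¹ * (n * a * n⁻¹) = n * (a * a) * n⁻¹ := by group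
  rw [h1, h.oct.sq a ha, mul_one, mul_inv_cancel]

theorem NTm (h : FH A T N) {n t : G} (hn : n ∈ N) (ht : t ∈ T) : n * t * n⁻¹ ∈ T :=
  (mem_normalizer_iff.1 (h.NT hn) t).1 ht

/-- every automorphism of the coordinates is induced -/
theorem exists_ind [Finite G] (h : FH A T N) {e : F → G} {l : G → F} (c : Crd A e l) (σ : F ≃+ F) :
    ∃ n ∈ N, ∀ f, n * e f * n⁻¹ = e (σ f) := by
  let φ : MulAut A :=
    { toFun := fun a => ⟨e (σ (l a)), c.mem _⟩
      invFun := fun a => ⟨e (σ.symm (l a)), c.mem _⟩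
      left_inv := fun a => by
        apply Subtype.ext
        change e (σ.symm (l (e (σ (l a))))) = a
        rw [c.le, AddEquiv.symm_apply_apply, c.el _ a.2]
      right_inv := fun a => by
        apply Subtype.ext
        change e (σ (l (e (σ.symm (l a))))) = a
        rw [c.le, AddEquiv.apply_symm_apply, c.el _ a.2]
      map_mul' := fun a b => by
        apply Subtype.ext
        change e (σ (l (a * b))) = e (σ (l a)) * e (σ (l b))
        rw [c.ladd a.2 b.2, map_add, c.add] }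
  obtain ⟨n, hn, hv⟩ := h.full φ
  refine ⟨n, hn, fun f => ?_⟩
  have h1 := hv ⟨e f, c.mem f⟩
  rw [h1]
  change e (σ (l (e f))) = e (σ f)
  rw [c.le]

/-- elements of 2-subgroups of `N` which act trivially on `A` are in `T` -/
theorem mem_T (h : FH A T N) {P : Subgroup G} (hP : IsPGroup 2 P) (hPN : P ≤ N) {x : G} (hx : x ∈ P)
    (hc : ∀ a ∈ A, x * a * x⁻¹ = a) : x ∈ T := by
  refine h.syl (P ⊓ centralizer (A : Set G)) (hP.to_le inf_le_left) (inf_le_left.trans hPN) inf_le_right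
    (mem_inf.2 ⟨hx, mem_centralizer_iff.2 fun a ha => ?_⟩)
  exact (mul_inv_eq_iff_eq_mul.1 (hc a ha)).symm

end FH

/-- a Sylow 2-subgroup of `C` induces all automorphisms induced by `C` when these form a 2-group -/
theorem exists_mem_same [Finite G] {C P A : Subgroup G} (hodd : ¬ 2 ∣ P.relIndex C)
    (hCA : ∀ c ∈ C, ∀ a ∈ A, c * a * c⁻¹ ∈ A) (m : ℕ)
    (h2 : ∀ c ∈ C, ∀ a ∈ A, c ^ 2 ^ m * a * (c ^ 2 ^ m)⁻¹ = a) {c : G} (hc : c ∈ C) :
    ∃ p ∈ P, ∀ a ∈ A, p * a * p⁻¹ = c * a * c⁻¹ := by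
  have hf2 : Fact (Nat.Prime 2) := ⟨Nat.prime_two⟩
  have hn : ∀ c ∈ C, ∀ a, a ∈ A ↔ c * a * c⁻¹ ∈ A := by
    intro c hc a
    refine ⟨fun ha => hCA c hc a ha, fun ha => ?_⟩
    have h1 := hCA c⁻¹ (C.inv_mem hc) _ ha
    have h2 : c⁻¹ * (c * a * c⁻¹) * c⁻¹⁻¹ = a := by group
    rwa [h2] at h1
  let f : C →* MulAut A := A.normalizerMonoidHom.comp
    (Subgroup.inclusion (fun c hc => mem_normalizer_iff.2 (hn c hc) : C ≤ normalizer (A : Set G)))
  have hf : ∀ (c : C) (a : A), (f c a : G) = c * a * (c : G)⁻¹ := fun _ _ => rfl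
  let P' : Subgroup C := P.subgroupOf C
  have hidx : ¬ 2 ∣ (P'.map f.rangeRestrict).index := by
    intro h
    apply hodd
    exact h.trans (Subgroup.index_map_dvd P' f.rangeRestrict_surjective)
  have hp : IsPGroup 2 f.range := by
    rintro ⟨_, ⟨c, rfl⟩⟩
    refine ⟨m, ?_⟩
    apply Subtype.ext
    change f c ^ 2 ^ m = 1
    rw [← map_pow]
    apply MulEquiv.ext
    intro a
    apply Subtype.ext
    rw [hf]
    exact h2 c c.2 a a.2
  have htop : P'.map f.rangeRestrict = ⊤ := by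
    rw [← Subgroup.index_eq_one]
    obtain ⟨k, hk⟩ := hp.index (P'.map f.rangeRestrict)
    rcases Nat.eq_zero_or_pos k with rfl | hk0
    · rw [hk, pow_zero]
    · exfalso
      apply hidx
      rw [hk]
      exact dvd_pow_self 2 hk0.ne'
  have hmem : f.rangeRestrict ⟨c, hc⟩ ∈ P'.map f.rangeRestrict := by rw [htop]; trivial
  obtain ⟨p, hp', hpc⟩ := hmem
  refine ⟨p, hp', fun a ha => ?_⟩
  have h3 : f p = f ⟨c, hc⟩ := congrArg Subtype.val hpc
  have h4 := congrArg (fun φ : MulAut A => ((φ ⟨a, ha⟩ : A) : G)) h3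
  exact h4

end Cfsg.Agent.RankThreeON.Setup
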