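import Mathlib
import Cfsg.Agent.RankThreeON.Setup

/-!
# Frame of S1730 [ON]: elements `s, t, t', k` of `N` above the standard automorphisms of `A`
-/

set_option autoImplicit false

namespace Cfsg.Agent.RankThreeON.Setup

open Subgroup Pencil EndL
open Cfsg.Agent.StdL2

variable {G : Type*} [Group G]

/-- Sylow 2-subgroups of a subgroup -/
theorem exists_syl [Finite G] (C : Subgroup G) : ∃ P : Subgroup G, P ≤ C ∧ IsPGroup 2 P ∧
    ¬ 2 ∣ P.relIndex C := by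
  have hf2 : Fact (Nat.Prime 2) := ⟨Nat.prime_two⟩
  obtain ⟨P1⟩ : Nonempty (Sylow 2 C) := inferInstance
  refine ⟨(P1 : Subgroup C).map C.subtype, Subgroup.map_subtype_le _, P1.2.map _, ?_⟩
  have h1 : ((P1 : Subgroup C).map C.subtype).subgroupOf C = P1 :=
    Subgroup.comap_map_eq_self_of_injective C.subtype_injective _
  rw [Subgroup.relIndex, h1]
  exact P1.not_dvd_index

theorem exists_conj_le [Finite G] {C P Q : Subgroup G} (hP2 : IsPGroup 2 P)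
    (hidx : ¬ 2 ∣ P.relIndex C) (hQ : Q ≤ C) (hQ2 : IsPGroup 2 Q) :
    ∃ c ∈ C, ∀ x ∈ Q, c * x * c⁻¹ ∈ P := by
  have hf2 : Fact (Nat.Prime 2) := ⟨Nat.prime_two⟩
  have h1 : IsPGroup 2 (P.subgroupOf C) := hP2.comap_subtype
  have h2 : IsPGroup 2 (Q.subgroupOf C) := hQ2.comap_subtype
  obtain ⟨R, hR⟩ := h2.exists_le_sylow
  obtain ⟨c, hc⟩ := MulAction.exists_smul_eq C R (h1.toSylow hidx)
  refine ⟨c, c.2, fun x hx => ?_⟩
  have h3 : (⟨x, hQ hx⟩ : C) ∈ (R : Subgroup C) := hR (mem_subgroupOf.2 hx)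
  have h4 : c * ⟨x, hQ hx⟩ * c⁻¹ ∈ ((c • R : Sylow 2 C) : Subgroup C) := by
    have : c * ⟨x, hQ hx⟩ * c⁻¹ = (MulAut.conj c) • (⟨x, hQ hx⟩ : C) := rfl
    rw [this]
    exact Subgroup.smul_mem_pointwise_smul _ _ _ h3
  rw [hc] at h4
  exact mem_subgroupOf.1 h4

/-- automorphisms of the coordinate space -/
def eK : F ≃+ F where
  toFun := mK
  invFun f := (f.1 + f.2.1, f.1, f.2.2)
  left_inv := by intro v; revert v; decide
  right_inv := by intro v; revert v; decide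
  map_add' := by intro v w; revert v w; decide

def eT' : F ≃+ F := eqv mT' (by decide) (by decide)

/-- inverse of `mK` -/
def mKi (f : F) : F := (f.1 + f.2.1, f.1, f.2.2)

theorem mK_mKi : ∀ v, mK (mKi v) = v := by decide
theorem mT_mT : ∀ v, mT (mT v) = v := by decide
theorem mS_mS : ∀ v, mS (mS v) = v := by decide
theorem mT'_mT' : ∀ v, mT' (mT' v) = v := by decide
theorem r1 : ∀ v, mK (mS (mKi v)) = mT' v := by decide
theorem r2 : ∀ v, mT (mS (mS (mT v))) = v := by decide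
theorem r3 : ∀ v, mS (mT (mS (mT v))) = v := by decide
theorem r4 : ∀ v, mT' (mS (mS (mT' v))) = v := by decide
theorem r5 : ∀ v, mS (mT' (mS (mT' v))) = v := by decide
theorem r6 : ∀ v, mS (mT' (mT' (mS v))) = v := by decide
theorem r7 : ∀ v, mK (mT' (mKi (mT' (mS v)))) = v := by decide

/-- the pointwise stabiliser in `N` of the plane `⟨z, a⟩` -/
def CW (N : Subgroup G) (e : F → G) : Subgroup G := N ⊓ centralizer {e (1, 0, 0), e (0, 1, 0)}

theorem mem_CW {N : Subgroup G} {e : F → G} {x : G} : x ∈ CW N e ↔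
    x ∈ N ∧ x * e (1, 0, 0) * x⁻¹ = e (1, 0, 0) ∧ x * e (0, 1, 0) * x⁻¹ = e (0, 1, 0) := by
  unfold CW
  rw [mem_inf, mem_centralizer_iff]
  constructor
  · rintro ⟨h1, h2⟩
    refine ⟨h1, ?_, ?_⟩
    · exact mul_inv_eq_iff_eq_mul.2 (h2 _ (by simp)).symm
    · exact mul_inv_eq_iff_eq_mul.2 (h2 _ (by simp)).symm
  · rintro ⟨h1, h2, h3⟩
    refine ⟨h1, ?_⟩
    intro y hy
    rcases hy with rfl | rfl
    · exact (mul_inv_eq_iff_eq_mul.1 h2).symm
    · exact (mul_inv_eq_iff_eq_mul.1 h3).symm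

namespace FH

variable {A T N : Subgroup G} {e : F → G} {l : G → F}

/-- the coordinate action of an element of `N` -/
theorem exists_act (h : FH A T N) (c : Crd A e l) {n : G} (hn : n ∈ N) :
    ∃ φ : F →+ F, ∀ f, n * e f * n⁻¹ = e (φ f) := by
  refine ⟨{ toFun := fun f => l (n * e f * n⁻¹)
            map_zero' := by rw [c.e0, mul_one, mul_inv_cancel, c.l1]
            map_add' := fun f g => by
              have h1 : n * e (f + g) * n⁻¹ = (n * e f * n⁻¹) * (n * e g * n⁻¹) := by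
                rw [c.add]; group
              rw [h1, c.ladd (h.NA hn (c.mem f)) (h.NA hn (c.mem g))] }, fun f => ?_⟩
  exact (c.el _ (h.NA hn (c.mem f))).symm

theorem ext_act (h : FH A T N) (c : Crd A e l) {n m : G} (hn : n ∈ N) (hm : m ∈ N)
    (h1 : n * e (1, 0, 0) * n⁻¹ = m * e (1, 0, 0) * m⁻¹)
    (h2 : n * e (0, 1, 0) * n⁻¹ = m * e (0, 1, 0) * m⁻¹)
    (h3 : n * e (0, 0, 1) * n⁻¹ = m * e (0, 0, 1) * m⁻¹) {a : G} (ha : a ∈ A) :
    n * a * n⁻¹ = m * a * m⁻¹ := by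
  obtain ⟨φ, hφ⟩ := h.exists_act c hn
  obtain ⟨ψ, hψ⟩ := h.exists_act c hm
  rw [hφ, hψ] at h1 h2 h3
  have e1 : φ = ψ := by
    rw [eq_mk φ, eq_mk ψ]
    have hinj : ∀ x y : F, e x = e y → x = y := fun x y hxy => by rw [← c.le x, hxy, c.le]
    rw [hinj _ _ h1, hinj _ _ h2, hinj _ _ h3]
  rw [← c.el a ha, hφ, hψ, e1]

/-- squares of elements of `C_W` act trivially on `A` -/
theorem CW_sq (h : FH A T N) (c : Crd A e l) {x : G} (hx : x ∈ CW N e) {a : G} (ha : a ∈ A) :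
    x ^ 2 ^ 1 * a * (x ^ 2 ^ 1)⁻¹ = a := by
  obtain ⟨hxN, h1, h2⟩ := mem_CW.1 hx
  obtain ⟨φ, hφ⟩ := h.exists_act c hxN
  have hinj : ∀ x y : F, e x = e y → x = y := fun x y hxy => by rw [← c.le x, hxy, c.le]
  rw [hφ] at h1 h2
  have e1 := hinj _ _ h1
  have e2 := hinj _ _ h2
  have e4 : x ^ 2 ^ 1 * a * (x ^ 2 ^ 1)⁻¹ = x * (x * a * x⁻¹) * x⁻¹ := by
    rw [pow_one, pow_two]; group
  rw [e4, ← c.el a ha, hφ, hφ, map_eq φ (φ (l a)), map_eq φ (l a), e1, e2]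
  congr 1
  have hne : (φ (0, 0, 1)).2.2 ≠ 0 := by
    intro h0
    have h5 : φ (0, 0, 1) = φ (((φ (0, 0, 1)).1, (φ (0, 0, 1)).2.1, 0)) := by
      rw [map_eq φ ((φ (0, 0, 1)).1, (φ (0, 0, 1)).2.1, 0), e1, e2]
      revert h0
      generalize φ (0, 0, 1) = w
      revert w
      decide
    have h6 : ((0, 0, 1) : F) = ((φ (0, 0, 1)).1, (φ (0, 0, 1)).2.1, 0) := by
      have hφinj : Function.Injective φ := by
        intro u v huv
        have h7 : x * e u * x⁻¹ = x * e v * x⁻¹ := by rw [hφ, hφ, huv]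
        exact hinj _ _ (mul_left_cancel (mul_right_cancel h7))
      exact hφinj h5
    have h7 := congrArg (fun w : F => w.2.2) h6
    exact absurd h7 (by decide : (1 : ZMod 2) ≠ 0)
  revert hne
  generalize φ (0, 0, 1) = w
  generalize l a = u
  revert w u
  decide

/-- **Frattini**: elements of `N` normalising `P` -/
theorem exists_frattini [Finite G] (h : FH A T N) (c : Crd A e l) {P : Subgroup G} (hPC : P ≤ CW N e)
    (hP2 : IsPGroup 2 P) (hidx : ¬ 2 ∣ P.relIndex (CW N e)) (σ : F ≃+ F)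
    (hσ1 : σ.symm (1, 0, 0) = (1, 0, 0) ∨ σ.symm (1, 0, 0) = (0, 1, 0) ∨ σ.symm (1, 0, 0) = (1, 1, 0))
    (hσ2 : σ.symm (0, 1, 0) = (1, 0, 0) ∨ σ.symm (0, 1, 0) = (0, 1, 0) ∨ σ.symm (0, 1, 0) = (1, 1, 0)) :
    ∃ k ∈ N, (∀ f, k * e f * k⁻¹ = e (σ f)) ∧ ∀ x ∈ P, k * x * k⁻¹ ∈ P := by
  obtain ⟨n, hn, hnσ⟩ := h.exists_ind c σ
  -- `n P n⁻¹ ≤ C_W`
  have hfix : ∀ x ∈ CW N e, ∀ f : F, (f = (1, 0, 0) ∨ f = (0, 1, 0) ∨ f = (1, 1, 0)) →
      x * e f * x⁻¹ = e f := by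
    intro x hx f hf
    obtain ⟨-, h1, h2⟩ := mem_CW.1 hx
    rcases hf with rfl | rfl | rfl
    · exact h1
    · exact h2
    · have h3 : ((1, 1, 0) : F) = (1, 0, 0) + (0, 1, 0) := rfl
      rw [h3, c.add]
      have h4 : x * (e (1, 0, 0) * e (0, 1, 0)) * x⁻¹ = (x * e (1, 0, 0) * x⁻¹) * (x * e (0, 1, 0) * x⁻¹) := by
        group
      rw [h4, h1, h2]
  have hni : ∀ f, n⁻¹ * e f * n = e (σ.symm f) := by
    intro f
    have h1 := hnσ (σ.symm f)
    rw [AddEquiv.apply_symm_apply] at h1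
    rw [← h1]; group
  have hnC : ∀ x ∈ CW N e, n * x * n⁻¹ ∈ CW N e := by
    intro x hx
    refine mem_CW.2 ⟨N.mul_mem (N.mul_mem hn (mem_CW.1 hx).1) (N.inv_mem hn), ?_, ?_⟩
    · have h1 : n * x * n⁻¹ * e (1, 0, 0) * (n * x * n⁻¹)⁻¹ =
          n * (x * (n⁻¹ * e (1, 0, 0) * n) * x⁻¹) * n⁻¹ := by group
      rw [h1, hni, hfix x hx _ hσ1, hnσ, AddEquiv.apply_symm_apply]
    · have h1 : n * x * n⁻¹ * e (0, 1, 0) * (n * x * n⁻¹)⁻¹ =
          n * (x * (n⁻¹ * e (0, 1, 0) * n) * x⁻¹) * n⁻¹ := by group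
      rw [h1, hni, hfix x hx _ hσ2, hnσ, AddEquiv.apply_symm_apply]
  obtain ⟨d, hd, hdP⟩ := exists_conj_le (C := CW N e) (P := P) (Q := P.map (MulAut.conj n).toMonoidHom)
    hP2 hidx (by
      rintro _ ⟨x, hx, rfl⟩
      exact hnC x (hPC hx)) (hP2.map _)
  have hd' : ∀ x ∈ P, (d * n) * x * (d * n)⁻¹ ∈ P := by
    intro x hx
    have h1 := hdP _ (Subgroup.mem_map_of_mem (MulAut.conj n).toMonoidHom hx)
    have h2 : d * ((MulAut.conj n).toMonoidHom x) * d⁻¹ = (d * n) * x * (d * n)⁻¹ := by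
      change d * (n * x * n⁻¹) * d⁻¹ = _
      group
    rwa [h2] at h1
  have hCA : ∀ x ∈ CW N e, ∀ a ∈ A, x * a * x⁻¹ ∈ A := fun x hx a ha => h.NA (mem_CW.1 hx).1 ha
  obtain ⟨r, hr, hrd⟩ := exists_mem_same (P := P) hidx hCA 1 (fun x hx a ha => h.CW_sq c hx ha) hd
  refine ⟨r⁻¹ * (d * n), N.mul_mem (N.inv_mem (mem_CW.1 (hPC hr)).1) (N.mul_mem (mem_CW.1 hd).1 hn), ?_, ?_⟩
  · intro f
    have h1 : r⁻¹ * (d * n) * e f * (r⁻¹ * (d * n))⁻¹ = r⁻¹ * (d * (n * e f * n⁻¹) * d⁻¹) * r := by group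
    rw [h1, hnσ, ← hrd _ (c.mem _)]
    group
  · intro x hx
    have h1 : r⁻¹ * (d * n) * x * (r⁻¹ * (d * n))⁻¹ = r⁻¹ * ((d * n) * x * (d * n)⁻¹) * r := by group
    rw [h1]
    exact P.mul_mem (P.mul_mem (P.inv_mem hr) (hd' x hx)) hr

/-- elements above the standard automorphisms -/
structure Els (A T N : Subgroup G) (e : F → G) (s t t' k : G) : Prop where
  sN : s ∈ N
  tN : t ∈ N
  tN' : t' ∈ N
  kN : k ∈ N
  s_act : ∀ f, s * e f * s⁻¹ = e (mS f)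
  t_act : ∀ f, t * e f * t⁻¹ = e (mT f)
  t_act' : ∀ f, t' * e f * t'⁻¹ = e (mT' f)
  k_act : ∀ f, k * e f * k⁻¹ = e (mK f)
  ss : s * s ∈ T
  tt : t * t ∈ T
  tt' : t' * t' ∈ T
  st : (s * t) * (t * s)⁻¹ ∈ T
  st' : (s * t') * (t' * s)⁻¹ ∈ T
  ks : k * s = t' * k
  kt' : (k * t') * (s * (t' * k))⁻¹ ∈ T

theorem act_mul {x y : G} {f g : F → F} (hx : ∀ v, x * e v * x⁻¹ = e (f v))
    (hy : ∀ v, y * e v * y⁻¹ = e (g v)) (v : F) : (x * y) * e v * (x * y)⁻¹ = e (f (g v)) := by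
  rw [← hx, ← hy]; group

theorem act_inv {x : G} {f g : F → F} (hx : ∀ v, x * e v * x⁻¹ = e (f v)) (hfg : ∀ v, f (g v) = v)
    (v : F) : x⁻¹ * e v * x⁻¹⁻¹ = e (g v) := by
  have h1 := hx (g v)
  rw [hfg] at h1
  rw [← h1]; group

theorem exists_els [Finite G] (h : FH A T N) (c : Crd A e l) : ∃ s t t' k, Els A T N e s t t' k := by
  classical
  have hf2 : Fact (Nat.Prime 2) := ⟨Nat.prime_two⟩
  obtain ⟨P, hPC, hP2, hidx⟩ := exists_syl (CW N e)
  have hPN : P ≤ N := fun x hx => (mem_CW.1 (hPC hx)).1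
  have hCA : ∀ x ∈ CW N e, ∀ a ∈ A, x * a * x⁻¹ ∈ A := fun x hx a ha => h.NA (mem_CW.1 hx).1 ha
  -- `s`
  obtain ⟨n, hn, hnS⟩ := h.exists_ind c eS
  have hnW : n ∈ CW N e := mem_CW.2 ⟨hn, hnS _, hnS _⟩
  obtain ⟨s, hs, hsn⟩ := exists_mem_same (P := P) hidx hCA 1 (fun x hx a ha => h.CW_sq c hx ha) hnW
  have s_act : ∀ f, s * e f * s⁻¹ = e (mS f) := fun f => by
    rw [hsn _ (c.mem f), hnS]; rfl
  -- `k`, `t`
  obtain ⟨k, hk, hkσ, hkP⟩ := h.exists_frattini c hPC hP2 hidx eK (Or.inr (Or.inr rfl)) (Or.inl rfl)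
  have k_act : ∀ f, k * e f * k⁻¹ = e (mK f) := hkσ
  obtain ⟨t1, ht1, ht1σ, ht1P⟩ := h.exists_frattini c hPC hP2 hidx eT (Or.inl rfl) (Or.inr (Or.inr rfl))
  have t1_act : ∀ f, t1 * e f * t1⁻¹ = e (mT f) := ht1σ
  -- a 2-element
  obtain ⟨a, m, hm, hord⟩ : ∃ a m, Odd m ∧ orderOf t1 = 2 ^ a * m := by
    obtain ⟨a, m, hm, h1⟩ := Nat.exists_eq_two_pow_mul_odd (n := orderOf t1) (orderOf_pos t1).ne'
    exact ⟨a, m, hm, h1⟩
  set t := t1 ^ m with ht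
  have ht2 : t ^ 2 ^ a = 1 := by
    rw [ht, ← pow_mul, mul_comm m, ← hord, pow_orderOf_eq_one]
  have htN : t ∈ N := N.pow_mem ht1 m
  have t_act : ∀ f, t * e f * t⁻¹ = e (mT f) := by
    have h1 : ∀ (j : ℕ) (f : F), t1 ^ (2 * j) * e f * (t1 ^ (2 * j))⁻¹ = e f := by
      intro j
      induction j with
      | zero => intro f; simp
      | succ j ih =>
        intro f
        have h2 : t1 ^ (2 * (j + 1)) * e f * (t1 ^ (2 * (j + 1)))⁻¹ =
            t1 ^ (2 * j) * (t1 * (t1 * e f * t1⁻¹) * t1⁻¹) * (t1 ^ (2 * j))⁻¹ := by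
          rw [mul_add, pow_add, mul_one, pow_two]; group
        rw [h2, t1_act, t1_act, mT_mT, ih]
    obtain ⟨j, hj⟩ := hm
    intro f
    rw [ht, hj, pow_succ]
    have h2 : t1 ^ (2 * j) * t1 * e f * (t1 ^ (2 * j) * t1)⁻¹ =
        t1 ^ (2 * j) * (t1 * e f * t1⁻¹) * (t1 ^ (2 * j))⁻¹ := by group
    rw [h2, t1_act, h1]
  have htP : zpowers t ≤ normalizer (P : Set G) := by
    rw [zpowers_le]
    have h1 : t1 ∈ normalizer (P : Set G) := by
      have h3 : P.map (MulAut.conj t1).toMonoidHom = P := by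
        apply Subgroup.eq_of_le_of_card_ge
        · rintro _ ⟨x, hx, rfl⟩
          exact ht1P x hx
        · exact (Nat.card_congr (P.equivMapOfInjective _ (MulAut.conj t1).injective).toEquiv).le
      rw [mem_normalizer_iff]
      intro x
      constructor
      · exact ht1P x
      · intro hx
        rw [← h3] at hx
        obtain ⟨y, hy, hyx⟩ := hx
        have h4 : t1 * y * t1⁻¹ = t1 * x * t1⁻¹ := hyx
        have h5 := mul_left_cancel (mul_right_cancel h4)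
        rw [← h5]; exact hy
    rw [ht]
    exact (normalizer (P : Set G)).pow_mem h1 m
  have hz2 : IsPGroup 2 (zpowers t) := by
    rintro ⟨y, j, rfl⟩
    refine ⟨a, ?_⟩
    apply Subtype.ext
    change (t ^ j) ^ 2 ^ a = 1
    rw [← zpow_natCast, zpow_comm, zpow_natCast, ht2, one_zpow]
  have hQ : IsPGroup 2 (zpowers t ⊔ P : Subgroup G) := hz2.to_sup_of_normal_right' hP2 htP
  have hQN : (zpowers t ⊔ P : Subgroup G) ≤ N := sup_le (by rw [zpowers_le]; exact htN) hPN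
  have htQ : t ∈ (zpowers t ⊔ P : Subgroup G) := mem_sup_left (mem_zpowers t)
  have hsQ : s ∈ (zpowers t ⊔ P : Subgroup G) := mem_sup_right hs
  -- `t'`
  have htP' : k * s * k⁻¹ ∈ P := hkP s hs
  have t'_act : ∀ f, (k * s * k⁻¹) * e f * (k * s * k⁻¹)⁻¹ = e (mT' f) := by
    intro f
    rw [act_mul (act_mul k_act s_act) (act_inv k_act mK_mKi), r1]
  refine ⟨s, t, k * s * k⁻¹, k, hPN hs, htN, hPN htP', hk, s_act, t_act, t'_act, k_act, ?_, ?_, ?_, ?_, ?_, ?_, ?_⟩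
  · refine h.mem_T hP2 hPN (P.mul_mem hs hs) (fun a ha => ?_)
    rw [← c.el a ha, act_mul s_act s_act, mS_mS]
  · refine h.mem_T hQ hQN (mul_mem htQ htQ) (fun a ha => ?_)
    rw [← c.el a ha, act_mul t_act t_act, mT_mT]
  · refine h.mem_T hP2 hPN (P.mul_mem htP' htP') (fun a ha => ?_)
    rw [← c.el a ha, act_mul t'_act t'_act, mT'_mT']
  · refine h.mem_T hQ hQN (mul_mem (mul_mem hsQ htQ) (inv_mem (mul_mem htQ hsQ))) (fun a ha => ?_)
    rw [← c.el a ha, act_mul (act_mul s_act t_act) (act_inv (g := fun v => mS (mT v)) (act_mul t_act s_act) r2), r3]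
  · refine h.mem_T hP2 hPN (P.mul_mem (P.mul_mem hs htP') (P.inv_mem (P.mul_mem htP' hs))) (fun a ha => ?_)
    rw [← c.el a ha, act_mul (act_mul s_act t'_act) (act_inv (g := fun v => mS (mT' v)) (act_mul t'_act s_act) r4), r5]
  · group
  · have h1 : k * (k * s * k⁻¹) * (s * (k * s * k⁻¹ * k))⁻¹ =
        (k * (k * s * k⁻¹) * k⁻¹) * (s * (k * s * k⁻¹))⁻¹ := by group
    rw [h1]
    refine h.mem_T hP2 hPN (P.mul_mem (hkP _ htP') (P.inv_mem (P.mul_mem hs htP'))) (fun a ha => ?_)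
    rw [← c.el a ha, act_mul (act_mul (act_mul k_act t'_act) (act_inv k_act mK_mKi))
      (act_inv (g := fun v => mT' (mS v)) (act_mul s_act t'_act) r6), r7]

end FH

end Cfsg.Agent.RankThreeON.Setup
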