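import Mathlib
import Cfsg.Agent.RankThreeON.Elems

/-!
# Frame of S1730 [ON]: `U / M = Ω₁(Z(T / M))`
-/

set_option autoImplicit false

namespace Cfsg.Agent.RankThreeON.Setup

open Subgroup Pencil EndL
open Cfsg.Agent.StdL2

variable {G : Type*} [Group G]

/-- commutator -/
def cm (u t : G) : G := u * t * u⁻¹ * t⁻¹

theorem cm_def (u t : G) : cm u t = u * t * u⁻¹ * t⁻¹ := rfl

theorem mul_eq_cm (u t : G) : u * t = cm u t * (t * u) := by
  rw [cm_def]; group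

theorem cm_eq_one {u t : G} : cm u t = 1 ↔ u * t = t * u := by
  constructor
  · intro h
    rw [mul_eq_cm u t, h, one_mul]
  · intro h
    rw [cm_def, h]; group

theorem cm_conj (g u t : G) : g * cm u t * g⁻¹ = cm (g * u * g⁻¹) (g * t * g⁻¹) := by
  rw [cm_def, cm_def]; group

/-- `M` is central in `T` -/
def Cn (M T : Subgroup G) : Prop := ∀ m ∈ M, ∀ t ∈ T, m * t = t * m

variable {M T : Subgroup G}

theorem cm_mul_left (hM : Cn M T) {u v t : G} (hu : u ∈ T) (hvt : cm v t ∈ M) :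
    cm (u * v) t = cm v t * cm u t := by
  have h1 : cm (u * v) t = u * cm v t * (t * u⁻¹ * t⁻¹) := by rw [cm_def, cm_def]; group
  have h2 : u * cm v t = cm v t * u := (hM _ hvt u hu).symm
  rw [h1, h2, cm_def u t]
  group

theorem cm_mul_right (hM : Cn M T) {u t t' : G} (ht : t ∈ T) (hut : cm u t' ∈ M) :
    cm u (t * t') = cm u t * cm u t' := by
  have h1 : cm u (t * t') = u * t * u⁻¹ * (cm u t' * t⁻¹) := by rw [cm_def, cm_def]; group
  have h2 : cm u t' * t⁻¹ = t⁻¹ * cm u t' := hM _ hut _ (T.inv_mem ht)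
  rw [h1, h2, cm_def u t]
  group

theorem sq_mul (hM : Cn M T) {u v : G} (hu : u ∈ T) (hvu : cm v u ∈ M) :
    (u * v) * (u * v) = cm v u * ((u * u) * (v * v)) := by
  have h1 : (u * v) * (u * v) = u * (v * u) * v := by group
  have h2 : u * cm v u = cm v u * u := (hM _ hvu u hu).symm
  rw [h1, mul_eq_cm v u]
  have h3 : u * (cm v u * (u * v)) * v = (u * cm v u) * (u * v * v) := by group
  rw [h3, h2]; group

/-- `U / M = Ω₁(Z(T / M))` -/
def US (M T : Subgroup G) (hM : Cn M T) : Subgroup G where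
  carrier := {u | u ∈ T ∧ u * u ∈ M ∧ ∀ t ∈ T, cm u t ∈ M}
  mul_mem' := by
    rintro u v ⟨hu, hu2, huc⟩ ⟨hv, hv2, hvc⟩
    refine ⟨T.mul_mem hu hv, ?_, ?_⟩
    · rw [sq_mul hM hu (hvc u hu)]
      exact M.mul_mem (hvc u hu) (M.mul_mem hu2 hv2)
    · intro t ht
      rw [cm_mul_left hM hu (hvc t ht)]
      exact M.mul_mem (hvc t ht) (huc t ht)
  one_mem' := ⟨T.one_mem, by rw [mul_one]; exact M.one_mem, fun t _ => by
    rw [cm_def, one_mul, inv_one, mul_one, mul_inv_cancel]; exact M.one_mem⟩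
  inv_mem' := by
    rintro u ⟨hu, hu2, huc⟩
    refine ⟨T.inv_mem hu, ?_, ?_⟩
    · rw [← mul_inv_rev]
      exact M.inv_mem hu2
    · intro t ht
      have h1 : cm u⁻¹ t = u⁻¹ * (cm u t)⁻¹ * u := by rw [cm_def, cm_def]; group
      have h2 : u⁻¹ * (cm u t)⁻¹ = (cm u t)⁻¹ * u⁻¹ := (hM _ (M.inv_mem (huc t ht)) _ (T.inv_mem hu)).symm
      rw [h1, h2, inv_mul_cancel_right]
      exact M.inv_mem (huc t ht)

theorem mem_US {hM : Cn M T} {u : G} : u ∈ US M T hM ↔ u ∈ T ∧ u * u ∈ M ∧ ∀ t ∈ T, cm u t ∈ M :=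
  Iff.rfl

theorem cm_sq {hM : Cn M T} {u t : G} (hu : u ∈ US M T hM) (ht : t ∈ T) : cm u t * cm u t = 1 := by
  obtain ⟨huT, hu2, huc⟩ := mem_US.1 hu
  rw [← cm_mul_left hM huT (huc t ht), cm_eq_one]
  exact hM _ hu2 t ht

theorem US_conj {hM : Cn M T} {n u : G} (hT : ∀ t ∈ T, n * t * n⁻¹ ∈ T) (hT' : ∀ t ∈ T, n⁻¹ * t * n ∈ T)
    (hMn : ∀ m ∈ M, n * m * n⁻¹ ∈ M) (hu : u ∈ US M T hM) : n * u * n⁻¹ ∈ US M T hM := by
  obtain ⟨huT, hu2, huc⟩ := mem_US.1 hu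
  refine mem_US.2 ⟨hT u huT, ?_, ?_⟩
  · have h1 : n * u * n⁻¹ * (n * u * n⁻¹) = n * (u * u) * n⁻¹ := by group
    rw [h1]
    exact hMn _ hu2
  · intro t ht
    have h1 : cm (n * u * n⁻¹) t = n * cm u (n⁻¹ * t * n) * n⁻¹ := by
      rw [cm_conj]
      congr 1
      group
    rw [h1]
    exact hMn _ (huc _ (hT' t ht))

/-- a proper normal central subgroup: `U ≠ M` -/
theorem exists_mem_US [Finite G] (hT : IsPGroup 2 T) (hM : Cn M T) (_hMT : M ≤ T) (hne : ¬ T ≤ M) :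
    ∃ u ∈ US M T hM, u ∉ M := by
  obtain ⟨x, -, hxn, hc, hx2⟩ := Cfsg.Agent.TwoFusion.HaradaSetup.exists_central_mod (S := T) hT ⊤ ⊤
    (M.subgroupOf T) le_top (by
      intro h
      apply hne
      intro t ht
      exact mem_subgroupOf.1 (h (mem_top (⟨t, ht⟩ : T)))) le_rfl
    (fun _ _ _ _ => mem_top _) (by
      intro h _ n hn
      rw [mem_subgroupOf] at hn ⊢
      have h1 : ((h * n * h⁻¹ : T) : G) = n := by
        change (h : G) * n * (h : G)⁻¹ = n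
        rw [← hM _ hn h h.2, mul_inv_cancel_right]
      rw [h1]
      exact hn)
  refine ⟨x, mem_US.2 ⟨x.2, ?_, ?_⟩, fun h => hxn (mem_subgroupOf.2 h)⟩
  · exact mem_subgroupOf.1 hx2
  · intro t ht
    have h1 := mem_subgroupOf.1 (hc ⟨t, ht⟩ (mem_top _))
    have h2 : t * x * t⁻¹ * (x : G)⁻¹ ∈ M := h1
    have h3 : cm (x : G) t = (t * x * t⁻¹ * (x : G)⁻¹)⁻¹ := by rw [cm_def]; group
    rw [h3]
    exact M.inv_mem h2

end Cfsg.Agent.RankThreeON.Setup
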