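import Mathlib
import Cfsg.Agent.RankThreeON.USub

/-!
# Frame of S1730 [ON]: `V = U / A` has order 1 or 8 and `U` is abelian
-/

set_option autoImplicit false
set_option linter.style.haveILetI false

namespace Cfsg.Agent.RankThreeON.Setup

open Subgroup Pencil EndL
open Cfsg.Agent.StdL2

variable {G : Type*} [Group G]

/-- conjugation on `U` -/
def cU {U : Subgroup G} (n : G) (hn : ∀ u ∈ U, n * u * n⁻¹ ∈ U) : U →* U where
  toFun u := ⟨n * u * n⁻¹, hn u u.2⟩
  map_one' := Subtype.ext (by simp)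
  map_mul' u v := Subtype.ext (by
    change n * (u * v) * n⁻¹ = n * u * n⁻¹ * (n * v * n⁻¹)
    group)

/-- conjugation on `U / A` -/
def cV {U A : Subgroup G} [(A.subgroupOf U).Normal] (n : G) (hn : ∀ u ∈ U, n * u * n⁻¹ ∈ U)
    (hA : ∀ a ∈ A, n * a * n⁻¹ ∈ A) : (U ⧸ A.subgroupOf U) →* (U ⧸ A.subgroupOf U) :=
  QuotientGroup.map _ _ (cU n hn) (fun a ha => mem_subgroupOf.2 (hA a (mem_subgroupOf.1 ha)))

theorem cV_mk {U A : Subgroup G} [(A.subgroupOf U).Normal] (n : G) (hn : ∀ u ∈ U, n * u * n⁻¹ ∈ U)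
    (hA : ∀ a ∈ A, n * a * n⁻¹ ∈ A) (u : U) :
    cV n hn hA (u : U ⧸ A.subgroupOf U) = ((⟨n * u * n⁻¹, hn u u.2⟩ : U) : U ⧸ A.subgroupOf U) := rfl

theorem mk_eq {U A : Subgroup G} [(A.subgroupOf U).Normal] {u v : U} (h : (u : G)⁻¹ * v ∈ A) :
    (u : U ⧸ A.subgroupOf U) = v := by
  rw [QuotientGroup.eq, mem_subgroupOf]
  exact h

namespace FH

variable {A T N : Subgroup G} {e : F → G} {l : G → F}

theorem cn (h : FH A T N) : Cn A T := fun m hm t ht => (h.cen t ht m hm).symm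

theorem normal_A (h : FH A T N) : (A.subgroupOf (US A T h.cn)).Normal := by
  refine ⟨fun a ha u => ?_⟩
  rw [mem_subgroupOf] at ha ⊢
  have h1 : ((u * a * u⁻¹ : US A T h.cn) : G) = a := by
    change (u : G) * a * (u : G)⁻¹ = a
    rw [← h.cn _ ha u (mem_US.1 u.2).1, mul_inv_cancel_right]
  rw [h1]
  exact ha

theorem NTm' (h : FH A T N) {n : G} (hn : n ∈ N) : ∀ t ∈ T, n⁻¹ * t * n ∈ T := by
  intro t ht
  have h1 := h.NTm (N.inv_mem hn) ht
  rwa [inv_inv] at h1

theorem US_N (h : FH A T N) {n : G} (hn : n ∈ N) : ∀ u ∈ US A T h.cn, n * u * n⁻¹ ∈ US A T h.cn :=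
  fun _ hu => US_conj (fun _ ht => h.NTm hn ht) (h.NTm' hn) (fun _ hm => h.NA hn hm) hu

theorem A_N (h : FH A T N) {n : G} (hn : n ∈ N) : ∀ a ∈ A, n * a * n⁻¹ ∈ A := fun _ ha => h.NA hn ha

theorem A_le_US (h : FH A T N) : A ≤ US A T h.cn := by
  intro a ha
  refine mem_US.2 ⟨h.AT ha, A.mul_mem ha ha, fun t ht => ?_⟩
  rw [cm_eq_one.2 (h.cn a ha t ht)]
  exact A.one_mem

theorem l_sq_mul_A (h : FH A T N) {u a : G} (hu : u ∈ US A T h.cn) (ha : a ∈ A) :
    (u * a) * (u * a) = u * u := by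
  have h1 : a * u = u * a := h.cn a ha u (mem_US.1 hu).1
  calc (u * a) * (u * a) = u * (a * u) * a := by group
    _ = u * (u * a) * a := by rw [h1]
    _ = u * u * (a * a) := by group
    _ = u * u := by rw [h.oct.sq a ha, mul_one]

/-- the polar form on `U` -/
theorem l_cm_add (h : FH A T N) (c : Crd A e l) {u v w : G} (hu : u ∈ US A T h.cn)
    (hv : v ∈ US A T h.cn) (hw : w ∈ US A T h.cn) : l (cm (u * v) w) = l (cm u w) + l (cm v w) := by
  obtain ⟨hu1, -, hu3⟩ := mem_US.1 hu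
  obtain ⟨hv1, -, hv3⟩ := mem_US.1 hv
  have hw1 := (mem_US.1 hw).1
  rw [cm_mul_left h.cn hu1 (hv3 w hw1), c.ladd (hv3 w hw1) (hu3 w hw1), add_comm]

theorem l_cm_add' (h : FH A T N) (c : Crd A e l) {u v w : G} (hu : u ∈ US A T h.cn)
    (hv : v ∈ US A T h.cn) (hw : w ∈ US A T h.cn) : l (cm w (u * v)) = l (cm w u) + l (cm w v) := by
  have hu1 := (mem_US.1 hu).1
  have hv1 := (mem_US.1 hv).1
  obtain ⟨-, -, hw3⟩ := mem_US.1 hw
  rw [cm_mul_right h.cn hu1 (hw3 v hv1), c.ladd (hw3 u hu1) (hw3 v hv1)]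

theorem l_sq_mul (h : FH A T N) (c : Crd A e l) {u v : G} (hu : u ∈ US A T h.cn)
    (hv : v ∈ US A T h.cn) : l ((u * v) * (u * v)) = l (cm v u) + l (u * u) + l (v * v) := by
  obtain ⟨hu1, hu2, hu3⟩ := mem_US.1 hu
  obtain ⟨hv1, hv2, hv3⟩ := mem_US.1 hv
  rw [sq_mul h.cn hu1 (hv3 u hu1), c.ladd (hv3 u hu1) (A.mul_mem hu2 hv2), c.ladd hu2 hv2, add_assoc]

theorem quad_id (h : FH A T N) (c : Crd A e l) {u v w : G} (hu : u ∈ US A T h.cn)
    (hv : v ∈ US A T h.cn) (hw : w ∈ US A T h.cn) :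
    l ((u * v * w) * (u * v * w)) = l ((u * v) * (u * v)) + l ((u * w) * (u * w)) + l ((v * w) * (v * w)) +
      l (u * u) + l (v * v) + l (w * w) := by
  have huv := (US A T h.cn).mul_mem hu hv
  rw [h.l_sq_mul c huv hw, h.l_cm_add' c hu hv hw, h.l_sq_mul c hu hv, h.l_sq_mul c hu hw,
    h.l_sq_mul c hv hw]
  have hxx : ∀ x : F, x + x = 0 := by decide
  generalize l (cm w u) = x1
  generalize l (cm w v) = x2
  generalize l (cm v u) = x3
  generalize l (u * u) = y1
  generalize l (v * v) = y2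
  generalize l (w * w) = y3
  have h4 : x3 + y1 + y2 + (x1 + y1 + y3) + (x2 + y2 + y3) + y1 + y2 + y3 =
      (x1 + x2 + (x3 + y1 + y2) + y3) + (y1 + y1) + (y2 + y2) + (y3 + y3) := by abel
  rw [h4, hxx, hxx, hxx, add_zero, add_zero, add_zero]

section Q

variable (h : FH A T N)

/-- the quadratic map on `U / A` -/
noncomputable def qv (l : G → F) : (US A T h.cn ⧸ A.subgroupOf (US A T h.cn)) → F :=
  fun v => l (((Quotient.out v : US A T h.cn) : G) * ((Quotient.out v : US A T h.cn) : G))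

theorem qv_mk (l : G → F) (u : US A T h.cn) :
    h.qv l (u : US A T h.cn ⧸ A.subgroupOf (US A T h.cn)) = l ((u : G) * u) := by
  have := h.normal_A
  unfold qv
  have h1 : ((Quotient.out (u : US A T h.cn ⧸ A.subgroupOf (US A T h.cn)) : US A T h.cn) :
      US A T h.cn ⧸ A.subgroupOf (US A T h.cn)) = u := Quotient.out_eq _
  have h2 := (QuotientGroup.eq.1 h1.symm)
  rw [mem_subgroupOf] at h2
  generalize Quotient.out (u : US A T h.cn ⧸ A.subgroupOf (US A T h.cn)) = w at h2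
  have h3 : ((w : US A T h.cn) : G) = u * ((u : G)⁻¹ * w) := by group
  have h4 : (u : G)⁻¹ * w ∈ A := h2
  rw [h3, h.l_sq_mul_A u.2 h4]

theorem V_sq [(A.subgroupOf (US A T h.cn)).Normal] (v : US A T h.cn ⧸ A.subgroupOf (US A T h.cn)) :
    v * v = 1 := by
  induction v using QuotientGroup.induction_on with
  | H u =>
    rw [← QuotientGroup.mk_mul, QuotientGroup.eq_one_iff, mem_subgroupOf]
    exact (mem_US.1 u.2).2.1

/-- the commutative group structure on `V` -/
abbrev cgV [(A.subgroupOf (US A T h.cn)).Normal] :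
    CommGroup (US A T h.cn ⧸ A.subgroupOf (US A T h.cn)) :=
  { (inferInstance : Group (US A T h.cn ⧸ A.subgroupOf (US A T h.cn))) with
    mul_comm := fun a b => G23Aut.comm_of_sq h.V_sq a b }

end Q

theorem Els.cV_eq {s t : G} (h : FH A T N) [(A.subgroupOf (US A T h.cn)).Normal] (hs : s ∈ N) (ht : t ∈ N)
    (hst : s * t⁻¹ ∈ T) (v : US A T h.cn ⧸ A.subgroupOf (US A T h.cn)) :
    cV s (h.US_N hs) (h.A_N hs) v = cV t (h.US_N ht) (h.A_N ht) v := by
  induction v using QuotientGroup.induction_on with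
  | H u =>
    rw [cV_mk, cV_mk]
    symm
    apply mk_eq
    change (t * u * t⁻¹)⁻¹ * (s * u * s⁻¹) ∈ A
    -- `s = r t`, `r ∈ T`
    have h1 : t * (u : G) * t⁻¹ ∈ US A T h.cn := h.US_N ht _ u.2
    have h2 : s * (u : G) * s⁻¹ = (s * t⁻¹) * (t * u * t⁻¹) * (s * t⁻¹)⁻¹ := by group
    rw [h2]
    have h3 := (mem_US.1 ((US A T h.cn).inv_mem h1)).2.2 _ hst
    rw [cm_def, inv_inv] at h3
    have h4 : (t * (u : G) * t⁻¹)⁻¹ * ((s * t⁻¹) * (t * u * t⁻¹) * (s * t⁻¹)⁻¹) =
        (t * (u : G) * t⁻¹)⁻¹ * (s * t⁻¹) * (t * u * t⁻¹) * (s * t⁻¹)⁻¹ := by group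
    rw [h4]
    exact h3

theorem cV_comp (h : FH A T N) [(A.subgroupOf (US A T h.cn)).Normal] {s t : G} (hs : s ∈ N) (ht : t ∈ N)
    (v : US A T h.cn ⧸ A.subgroupOf (US A T h.cn)) :
    cV s (h.US_N hs) (h.A_N hs) (cV t (h.US_N ht) (h.A_N ht) v) =
      cV (s * t) (h.US_N (N.mul_mem hs ht)) (h.A_N (N.mul_mem hs ht)) v := by
  induction v using QuotientGroup.induction_on with
  | H u =>
    rw [cV_mk, cV_mk, cV_mk]
    congr 2
    change s * (t * u * t⁻¹) * s⁻¹ = s * t * u * (s * t)⁻¹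
    group

theorem cV_one (h : FH A T N) [(A.subgroupOf (US A T h.cn)).Normal] {t : G} (ht : t ∈ T)
    (v : US A T h.cn ⧸ A.subgroupOf (US A T h.cn)) :
    cV t (h.US_N (h.TN ht)) (h.A_N (h.TN ht)) v = v := by
  have h1 : (1 : G) ∈ N := N.one_mem
  rw [Els.cV_eq h (h.TN ht) h1 (by rw [inv_one, mul_one]; exact ht) v]
  induction v using QuotientGroup.induction_on with
  | H u =>
    rw [cV_mk]
    congr 2
    group

theorem qv_cV (h : FH A T N) (c : Crd A e l) [(A.subgroupOf (US A T h.cn)).Normal] {n : G} (hn : n ∈ N)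
    {σ : F → F} (hσ : ∀ f, n * e f * n⁻¹ = e (σ f)) (v : US A T h.cn ⧸ A.subgroupOf (US A T h.cn)) :
    h.qv l (cV n (h.US_N hn) (h.A_N hn) v) = σ (h.qv l v) := by
  induction v using QuotientGroup.induction_on with
  | H u =>
    rw [cV_mk, qv_mk, qv_mk, ← c.l_conj hσ (mem_US.1 u.2).2.1]
    congr 1
    change n * (u : G) * n⁻¹ * (n * u * n⁻¹) = _
    group

/-- the configuration on `V` -/
theorem conf [Finite G] (h : FH A T N) (c : Crd A e l) [(A.subgroupOf (US A T h.cn)).Normal]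
    {s t t' k : G} (E : Els A T N e s t t' k) :
    letI := h.cgV
    Conf (h.qv l) (cV s (h.US_N E.sN) (h.A_N E.sN)) (cV t (h.US_N E.tN) (h.A_N E.tN))
      (cV t' (h.US_N E.tN') (h.A_N E.tN')) (cV k (h.US_N E.kN) (h.A_N E.kN)) := by
  letI := h.cgV
  exact
    { two := h.V_sq
      zero := by
        intro v
        induction v using QuotientGroup.induction_on with
        | H u =>
          intro hv
          rw [qv_mk] at hv
          have h1 := c.eq_one (mem_US.1 u.2).2.1 hv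
          rw [QuotientGroup.eq_one_iff, mem_subgroupOf]
          exact h.om _ (mem_US.1 u.2).1 h1
      q1 := by
        have h1 : (1 : US A T h.cn ⧸ A.subgroupOf (US A T h.cn)) = ((1 : US A T h.cn) : US A T h.cn ⧸ _) := rfl
        rw [h1, qv_mk]
        change l (1 * 1) = 0
        rw [one_mul, c.l1]
      add := by
        intro u v w
        induction u using QuotientGroup.induction_on with
        | H u =>
        induction v using QuotientGroup.induction_on with
        | H v =>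
        induction w using QuotientGroup.induction_on with
        | H w =>
          have e1 := h.quad_id c u.2 v.2 w.2
          have e2 := h.qv_mk l (u * v * w)
          have e3 := h.qv_mk l (u * v)
          have e4 := h.qv_mk l (u * w)
          have e5 := h.qv_mk l (v * w)
          rw [← QuotientGroup.mk_mul, ← QuotientGroup.mk_mul, ← QuotientGroup.mk_mul, ← QuotientGroup.mk_mul,
            e2, e3, e4, e5, qv_mk, qv_mk, qv_mk]
          exact e1
      ss := fun v => by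
        rw [h.cV_comp E.sN E.sN, h.cV_one E.ss]
      tt := fun v => by
        rw [h.cV_comp E.tN E.tN, h.cV_one E.tt]
      st := fun v => by
        rw [h.cV_comp E.sN E.tN, h.cV_comp E.tN E.sN]
        exact Els.cV_eq h (N.mul_mem E.sN E.tN) (N.mul_mem E.tN E.sN) E.st v
      qs := fun v => h.qv_cV c E.sN E.s_act v
      qt := fun v => h.qv_cV c E.tN E.t_act v
      tt' := fun v => by
        rw [h.cV_comp E.tN' E.tN', h.cV_one E.tt']
      st' := fun v => by
        rw [h.cV_comp E.sN E.tN', h.cV_comp E.tN' E.sN]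
        exact Els.cV_eq h (N.mul_mem E.sN E.tN') (N.mul_mem E.tN' E.sN) E.st' v
      ks := fun v => by
        rw [h.cV_comp E.kN E.sN, h.cV_comp E.tN' E.kN]
        exact Els.cV_eq h (N.mul_mem E.kN E.sN) (N.mul_mem E.tN' E.kN)
          (by rw [E.ks, mul_inv_cancel]; exact T.one_mem) v
      kt' := fun v => by
        rw [h.cV_comp E.kN E.tN', h.cV_comp E.tN' E.kN, h.cV_comp E.sN (N.mul_mem E.tN' E.kN)]
        exact Els.cV_eq h (N.mul_mem E.kN E.tN') (N.mul_mem E.sN (N.mul_mem E.tN' E.kN)) E.kt' v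
      qt' := fun v => h.qv_cV c E.tN' E.t_act' v
      qk := fun v => h.qv_cV c E.kN E.k_act v }

end FH

end Cfsg.Agent.RankThreeON.Setup
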