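import Mathlib
import Cfsg.Agent.RankThreeON.Quot

/-!
# Frame of S1730 [ON]: `U` is abelian
-/

set_option autoImplicit false
set_option linter.style.haveILetI false

namespace Cfsg.Agent.RankThreeON.Setup

open Subgroup Pencil EndL
open Cfsg.Agent.StdL2

variable {G : Type*} [Group G]

namespace FH

variable {A T N : Subgroup G} {e : F → G} {l : G → F}

theorem cV_inj (h : FH A T N) [(A.subgroupOf (US A T h.cn)).Normal] {n : G} (hn : n ∈ N) :
    Function.Injective (cV n (h.US_N hn) (h.A_N hn)) := by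
  have h1 : ∀ v, cV n⁻¹ (h.US_N (N.inv_mem hn)) (h.A_N (N.inv_mem hn)) (cV n (h.US_N hn) (h.A_N hn) v) = v := by
    intro v
    rw [h.cV_comp (N.inv_mem hn) hn]
    have h3 := Els.cV_eq h (N.mul_mem (N.inv_mem hn) hn) (h.TN T.one_mem)
      (by rw [inv_mul_cancel, one_mul, inv_one]; exact T.one_mem) v
    rw [h3, h.cV_one T.one_mem]
  intro v w hvw
  rw [← h1 v, hvw, h1 w]

/-- the fibres have the same size -/
theorem num_eq [Finite G] (h : FH A T N) (c : Crd A e l) [(A.subgroupOf (US A T h.cn)).Normal] {f g : F}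
    (hf : f ≠ 0) (hg : g ≠ 0) :
    letI := h.cgV
    num (h.qv l) ⊤ f = num (h.qv l) ⊤ g := by
  letI := h.cgV
  have key : ∀ f g : F, f ≠ 0 → g ≠ 0 → num (h.qv l) ⊤ f ≤ num (h.qv l) ⊤ g := by
    intro f g hf hg
    obtain ⟨σ, hσ⟩ := exists_map hf hg
    obtain ⟨n, hn, hnσ⟩ := h.exists_ind c σ
    have h1 := num_map (q := h.qv l) (H := ⊤) (cV n (h.US_N hn) (h.A_N hn)) (h.cV_inj hn)
      (fun _ _ => trivial) σ (fun v => h.qv_cV c hn hnσ v) f
    rwa [hσ] at h1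
  exact le_antisymm (key f g hf hg) (key g f hg hf)

/-- `U / A` has order 1 or 8; in the second case squaring is injective -/
theorem sq_inj [Finite G] (h : FH A T N) (c : Crd A e l) {u v : G} (hu : u ∈ US A T h.cn)
    (hv : v ∈ US A T h.cn) (huv : u * u = v * v) : u⁻¹ * v ∈ A := by
  haveI := h.normal_A
  letI := h.cgV
  by_cases hu1 : u * u = 1
  · rw [hu1] at huv
    exact A.mul_mem (A.inv_mem (h.om u (mem_US.1 hu).1 hu1)) (h.om v (mem_US.1 hv).1 huv.symm)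
  obtain ⟨s, t, t', k, E⟩ := h.exists_els c
  have hconf := h.conf c E
  have hm : ∀ f : F, f ≠ 0 → num (h.qv l) ⊤ f = num (h.qv l) ⊤ (1, 0, 0) :=
    fun f hf => h.num_eq c hf (by decide)
  have hl : l (u * u) ≠ 0 := fun h0 => hu1 (c.eq_one (mem_US.1 hu).2.1 h0)
  have h1 : num (h.qv l) ⊤ (l (u * u)) = 1 := by
    rcases hconf.card_le _ hm with h2 | ⟨-, h2⟩
    · exfalso
      have h3 : ((⟨u, hu⟩ : US A T h.cn) : US A T h.cn ⧸ A.subgroupOf (US A T h.cn)) = 1 := by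
        have := (Nat.card_eq_one_iff_unique.1 h2).1
        exact Subsingleton.elim _ _
      rw [QuotientGroup.eq_one_iff, mem_subgroupOf] at h3
      exact hu1 (h.oct.sq u h3)
    · rw [hm _ hl, h2]
  have h3 := eq_of_num_one h1 (v := ((⟨u, hu⟩ : US A T h.cn) : US A T h.cn ⧸ A.subgroupOf (US A T h.cn)))
    (w := ((⟨v, hv⟩ : US A T h.cn) : US A T h.cn ⧸ A.subgroupOf (US A T h.cn))) trivial trivial
    (h.qv_mk l ⟨u, hu⟩) (by rw [huv]; exact h.qv_mk l ⟨v, hv⟩)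
  rw [QuotientGroup.eq, mem_subgroupOf] at h3
  exact h3

/-- **`U` is abelian** -/
theorem comm_US [Finite G] (h : FH A T N) {u v : G} (hu : u ∈ US A T h.cn)
    (hv : v ∈ US A T h.cn) : u * v = v * u := by
  obtain ⟨e, l, c⟩ := exists_crd h.oct
  obtain ⟨hu1, hu2, hu3⟩ := mem_US.1 hu
  obtain ⟨hv1, hv2, hv3⟩ := mem_US.1 hv
  have huv := (US A T h.cn).mul_mem hu hv
  have huv2 := (mem_US.1 huv).2.1
  by_cases hcu : u * u = 1
  · exact h.cn u (h.om u hu1 hcu) v hv1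
  by_cases hcv : v * v = 1
  · exact (h.cn v (h.om v hv1 hcv) u hu1).symm
  by_cases hcuv : (u * v) * (u * v) = 1
  · have h1 := h.cn _ (h.om _ (mem_US.1 huv).1 hcuv) u hu1
    have h2 : u * v * u = u * (u * v) := h1
    have h3 : u * (v * u) = u * (u * v) := by rw [← h2]; group
    exact (mul_left_cancel h3).symm
  -- inducing elements fix `q (u v)`
  have hfix : ∀ σ : F ≃+ F, σ (l (u * u)) = l (u * u) → σ (l (v * v)) = l (v * v) →
      σ (l ((u * v) * (u * v))) = l ((u * v) * (u * v)) := by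
    intro σ h1 h2
    obtain ⟨n, hn, hnσ⟩ := h.exists_ind c σ
    have hsq : ∀ w ∈ US A T h.cn, σ (l (w * w)) = l (w * w) → w⁻¹ * (n * w * n⁻¹) ∈ A := by
      intro w hw h3
      refine h.sq_inj c hw (h.US_N hn w hw) ?_
      have h4 : n * w * n⁻¹ * (n * w * n⁻¹) = n * (w * w) * n⁻¹ := by group
      rw [h4]
      apply c.l_inj (mem_US.1 hw).2.1 (h.NA hn (mem_US.1 hw).2.1)
      rw [c.l_conj hnσ (mem_US.1 hw).2.1, h3]
    have e1 := hsq u hu h1
    have e2 := hsq v hv h2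
    rw [← c.l_conj hnσ huv2]
    congr 1
    -- `n (u v) n⁻¹ = u v a`
    have h5 : (u * v)⁻¹ * (n * (u * v) * n⁻¹) ∈ A := by
      have h6 : (u * v)⁻¹ * (n * (u * v) * n⁻¹) = v⁻¹ * (u⁻¹ * (n * u * n⁻¹)) * v * (v⁻¹ * (n * v * n⁻¹)) := by
        group
      have h7 : v⁻¹ * (u⁻¹ * (n * u * n⁻¹)) = (u⁻¹ * (n * u * n⁻¹)) * v⁻¹ :=
        (h.cn _ e1 _ (T.inv_mem hv1)).symm
      rw [h6, h7, inv_mul_cancel_right]
      exact A.mul_mem e1 e2
    have h8 : n * ((u * v) * (u * v)) * n⁻¹ = ((u * v) * ((u * v)⁻¹ * (n * (u * v) * n⁻¹))) *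
        ((u * v) * ((u * v)⁻¹ * (n * (u * v) * n⁻¹))) := by group
    rw [h8]
    exact h.l_sq_mul_A huv h5
  -- `q (u v)` lies in the plane
  have e1 : l (u * u) ≠ 0 := fun h0 => hcu (c.eq_one hu2 h0)
  have e2 : l (v * v) ≠ 0 := fun h0 => hcv (c.eq_one hv2 h0)
  have e3 : l ((u * v) * (u * v)) ≠ 0 := fun h0 => hcuv (c.eq_one huv2 h0)
  have e4 : l (u * u) ≠ l (v * v) := by
    intro h4
    have h5 := h.sq_inj c hu hv (c.l_inj hu2 hv2 h4)
    apply hcuv
    have h6 : u * v = (u * u) * (u⁻¹ * v) := by group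
    rw [h6]
    exact h.oct.sq _ (A.mul_mem hu2 h5)
  have e5 : l ((u * v) * (u * v)) ≠ l (u * u) := by
    intro h4
    have h5 := h.sq_inj c hu huv (c.l_inj huv2 hu2 h4).symm
    rw [inv_mul_cancel_left] at h5
    exact hcv (h.oct.sq v h5)
  have e6 : l ((u * v) * (u * v)) ≠ l (v * v) := by
    intro h4
    have h5 := h.sq_inj c hv huv (c.l_inj huv2 hv2 h4).symm
    -- `v⁻¹ u v ∈ A`
    apply hcu
    have h6 : u = v * (v⁻¹ * (u * v)) * v⁻¹ := by group
    have h7 : u ∈ A := by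
      rw [h6]
      have h8 : v * (v⁻¹ * (u * v)) = (v⁻¹ * (u * v)) * v := (h.cn _ h5 v hv1).symm
      rw [h8, mul_inv_cancel_right]
      exact h5
    exact h.oct.sq u h7
  have e7 : l ((u * v) * (u * v)) = l (u * u) + l (v * v) := by
    by_contra h4
    obtain ⟨σ, h5, h6, h7⟩ := exists_move e1 e2 e4 e3 e5 e6 h4
    exact h7 (hfix σ h5 h6)
  rw [h.l_sq_mul c hu hv] at e7
  have e8 : l (cm v u) = 0 := by
    have hxx : ∀ x y z : F, x + y + z = y + z → x = 0 := by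
      intro x y z hxyz
      rw [add_assoc] at hxyz
      exact left_eq_add.1 (by rw [add_comm]; exact hxyz.symm)
    exact hxx _ _ _ e7
  exact (cm_eq_one.1 (c.eq_one (hv3 u hu1) e8)).symm

end FH

end Cfsg.Agent.RankThreeON.Setup
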