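import Mathlib
import Cfsg.Agent.RankThreeON.QuotMain

/-!
# Frame of S1730 [ON]: `T` is abelian and homocyclic
-/

set_option autoImplicit false

namespace Cfsg.Agent.RankThreeON.Setup

open Subgroup Pencil EndL
open Cfsg.Agent.StdL2

variable {G : Type*} [Group G]

namespace FH

variable {A T N : Subgroup G} {e : F → G} {l : G → F}

/-- `N` is transitive on the involutions of `A` -/
theorem trans_A [Finite G] (h : FH A T N) {a b : G} (ha : a ∈ A) (hb : b ∈ A) (ha1 : a ≠ 1)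
    (hb1 : b ≠ 1) : ∃ n ∈ N, n * a * n⁻¹ = b := by
  obtain ⟨e, l, c⟩ := exists_crd h.oct
  obtain ⟨σ, hσ⟩ := exists_map (x := l a) (y := l b) (fun h0 => ha1 (c.eq_one ha h0))
    (fun h0 => hb1 (c.eq_one hb h0))
  obtain ⟨n, hn, hnσ⟩ := h.exists_ind c σ
  refine ⟨n, hn, ?_⟩
  rw [← c.el a ha, hnσ, hσ, c.el b hb]

theorem exists_ne_one (h : FH A T N) [Finite G] : ∃ a ∈ A, a ≠ 1 := by
  obtain ⟨e, l, c⟩ := exists_crd h.oct
  exact ⟨e (1, 0, 0), c.mem _, c.e_ne (by decide)⟩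

/-- exponent of an invariant subgroup -/
theorem exists_exp [Finite G] (h : FH A T N) {M : Subgroup G} (hMT : M ≤ T) (hAM : A ≤ M)
    (hMN : ∀ n ∈ N, ∀ m ∈ M, n * m * n⁻¹ ∈ M) :
    ∃ n, (∀ m ∈ M, m ^ 2 ^ (n + 1) = 1) ∧ ∀ a ∈ A, ∃ m ∈ M, m ^ 2 ^ n = a := by
  classical
  have hex : ∃ n, ∀ m ∈ M, m ^ 2 ^ n = 1 := by
    have hf2 : Fact (Nat.Prime 2) := ⟨Nat.prime_two⟩
    obtain ⟨k, hk⟩ := IsPGroup.iff_card.1 (h.pT.to_le hMT)
    refine ⟨k, fun m hm => ?_⟩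
    have h1 : (⟨m, hm⟩ : M) ^ Nat.card M = 1 := pow_card_eq_one'
    rw [hk] at h1
    exact congrArg Subtype.val h1
  obtain ⟨n, hn, hmin⟩ : ∃ n, (∀ m ∈ M, m ^ 2 ^ n = 1) ∧ ∀ j < n, ¬ ∀ m ∈ M, m ^ 2 ^ j = 1 :=
    ⟨Nat.find hex, Nat.find_spec hex, fun j hj => Nat.find_min hex hj⟩
  obtain ⟨a, ha, ha1⟩ := h.exists_ne_one
  cases n with
  | zero =>
    exfalso
    have := hn a (hAM ha)
    rw [pow_zero, pow_one] at this
    exact ha1 this
  | succ n =>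
    refine ⟨n, hn, fun b hb => ?_⟩
    have h1 := hmin n (Nat.lt_succ_self n)
    push Not at h1
    obtain ⟨m, hm, hm1⟩ := h1
    by_cases hb1 : b = 1
    · exact ⟨1, M.one_mem, by rw [one_pow, hb1]⟩
    have hmA : m ^ 2 ^ n ∈ A := by
      refine h.om _ (T.pow_mem (hMT hm) _) ?_
      rw [← pow_two, ← pow_mul, ← pow_succ]
      exact hn m hm
    obtain ⟨x, hx, hxb⟩ := h.trans_A hmA hb hm1 hb1
    exact ⟨x * m * x⁻¹, hMN x hx m hm, by rw [conj_pow, hxb]⟩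

/-- squares in an abelian invariant subgroup -/
theorem exists_sqrt (h : FH A T N) {M : Subgroup G} (hMT : M ≤ T)
    (hMc : ∀ x ∈ M, ∀ y ∈ M, x * y = y * x) {n : ℕ} (hroot : ∀ a ∈ A, ∃ m ∈ M, m ^ 2 ^ n = a) :
    ∀ j ≤ n, ∀ m ∈ M, m ^ 2 ^ j = 1 → ∃ m' ∈ M, m = m' * m' := by
  intro j
  induction j with
  | zero =>
    intro _ m _ hm1
    rw [pow_zero, pow_one] at hm1
    exact ⟨1, M.one_mem, by rw [hm1, mul_one]⟩
  | succ j ih =>
    intro hj m hm hm1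
    have ha : m ^ 2 ^ j ∈ A := by
      refine h.om _ (T.pow_mem (hMT hm) _) ?_
      rw [← pow_two, ← pow_mul, ← pow_succ]
      exact hm1
    obtain ⟨y, hy, hya⟩ := hroot _ ha
    obtain ⟨i, rfl⟩ : ∃ i, n = j + 1 + i := ⟨n - (j + 1), by omega⟩
    set y' := y ^ 2 ^ i with hy'
    have hy'M : y' ∈ M := M.pow_mem hy _
    have h1 : (y' * y') ^ 2 ^ j = m ^ 2 ^ j := by
      rw [← hya, hy', ← pow_two, ← pow_mul, ← pow_mul]
      congr 1
      rw [pow_add, pow_add]; ring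
    have hyM : y' * y' ∈ M := M.mul_mem hy'M hy'M
    have h2 : (m * (y' * y')⁻¹) ^ 2 ^ j = 1 := by
      have h3 : Commute m (y' * y')⁻¹ := hMc _ hm _ (M.inv_mem hyM)
      rw [h3.mul_pow, inv_pow, h1, mul_inv_cancel]
    obtain ⟨w, hw, hwm⟩ := ih (by omega) _ (M.mul_mem hm (M.inv_mem hyM)) h2
    refine ⟨w * y', M.mul_mem hw hy'M, ?_⟩
    have h4 : m = w * w * (y' * y') := by rw [← hwm]; group
    rw [h4]
    have h5 := hMc w hw y' hy'M
    calc w * w * (y' * y') = w * (w * y') * y' := by group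
      _ = w * (y' * w) * y' := by rw [h5]
      _ = w * y' * (w * y') := by group

/-- the subgroup of elements of order dividing `2 ^ j` -/
def KJ (M : Subgroup G) (hMc : ∀ x ∈ M, ∀ y ∈ M, x * y = y * x) (j : ℕ) : Subgroup G where
  carrier := {m | m ∈ M ∧ m ^ 2 ^ j = 1}
  mul_mem' := by
    rintro a b ⟨ha, ha1⟩ ⟨hb, hb1⟩
    refine ⟨M.mul_mem ha hb, ?_⟩
    rw [(show Commute a b from hMc a ha b hb).mul_pow, ha1, hb1, mul_one]
  one_mem' := ⟨M.one_mem, one_pow _⟩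
  inv_mem' := by
    rintro a ⟨ha, ha1⟩
    exact ⟨M.inv_mem ha, by rw [inv_pow, ha1, inv_one]⟩

theorem card_KJ (h : FH A T N) {M : Subgroup G} (hMT : M ≤ T) (hAM : A ≤ M)
    (hMc : ∀ x ∈ M, ∀ y ∈ M, x * y = y * x) {n : ℕ} (hroot : ∀ a ∈ A, ∃ m ∈ M, m ^ 2 ^ n = a) :
    ∀ j ≤ n + 1, Nat.card (KJ M hMc j) = 8 ^ j := by
  intro j
  induction j with
  | zero =>
    intro _
    rw [pow_zero, Nat.card_eq_one_iff_unique]
    refine ⟨⟨fun a b => ?_⟩, ⟨1⟩⟩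
    have h1 : ∀ a : KJ M hMc 0, (a : G) = 1 := by
      intro a
      have := a.2.2
      rwa [pow_zero, pow_one] at this
    exact Subtype.ext ((h1 a).trans (h1 b).symm)
  | succ j ih =>
    intro hj
    have hA : ∀ m ∈ KJ M hMc (j + 1), m ^ 2 ^ j ∈ A := by
      rintro m ⟨hm, hm1⟩
      refine h.om _ (T.pow_mem (hMT hm) _) ?_
      rw [← pow_two, ← pow_mul, ← pow_succ]
      exact hm1
    let f : KJ M hMc (j + 1) →* A :=
      { toFun := fun m => ⟨m ^ 2 ^ j, hA m m.2⟩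
        map_one' := Subtype.ext (one_pow _)
        map_mul' := fun a b => Subtype.ext
          ((show Commute (a : G) (b : G) from hMc _ a.2.1 _ b.2.1).mul_pow _) }
    have hsurj : Function.Surjective f := by
      rintro ⟨a, ha⟩
      obtain ⟨y, hy, hya⟩ := hroot a ha
      refine ⟨⟨y ^ 2 ^ (n - j), M.pow_mem hy _, ?_⟩, ?_⟩
      · have h1 : (y ^ 2 ^ (n - j)) ^ 2 ^ (j + 1) = (y ^ 2 ^ n) ^ 2 := by
          rw [← pow_mul, ← pow_mul]
          congr 1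
          have h2 : n = n - j + j := by omega
          conv_rhs => rw [h2]
          rw [pow_add, pow_succ]; ring
        rw [h1, hya, pow_two]
        exact h.oct.sq a ha
      · apply Subtype.ext
        change (y ^ 2 ^ (n - j)) ^ 2 ^ j = a
        rw [← pow_mul, ← pow_add, Nat.sub_add_cancel (by omega), hya]
    have hker : Nat.card f.ker = Nat.card (KJ M hMc j) := by
      refine Nat.card_congr ⟨fun m => ⟨m, m.1.2.1, congrArg Subtype.val m.2⟩,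
        fun m => ⟨⟨m, m.2.1, by rw [pow_succ, pow_mul, m.2.2, one_pow]⟩, Subtype.ext m.2.2⟩,
        fun _ => rfl, fun _ => rfl⟩
    have h1 := f.ker.card_mul_index
    rw [Subgroup.index_ker, MonoidHom.range_eq_top.2 hsurj, Nat.card_congr Subgroup.topEquiv.toEquiv,
      h.oct.card, hker, ih (by omega)] at h1
    rw [pow_succ, ← h1]

/-- order and exponent of an abelian invariant subgroup -/
theorem homocyclic [Finite G] (h : FH A T N) {M : Subgroup G} (hMT : M ≤ T) (hAM : A ≤ M)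
    (hMN : ∀ n ∈ N, ∀ m ∈ M, n * m * n⁻¹ ∈ M) (hMc : ∀ x ∈ M, ∀ y ∈ M, x * y = y * x) :
    ∃ n, Nat.card M = 8 ^ (n + 1) ∧ (∀ m ∈ M, m ^ 2 ^ (n + 1) = 1) ∧ ∀ a ∈ A, ∃ m ∈ M, m ^ 2 ^ n = a := by
  obtain ⟨n, h1, h2⟩ := h.exists_exp hMT hAM hMN
  refine ⟨n, ?_, h1, h2⟩
  rw [← h.card_KJ hMT hAM hMc h2 (n + 1) le_rfl]
  congr 1
  have h3 : M = KJ M hMc (n + 1) := by
    ext m
    exact ⟨fun hm => ⟨hm, h1 m hm⟩, fun hm => hm.1⟩
  rw [← h3]

end FH

end Cfsg.Agent.RankThreeON.Setup
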