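import Mathlib
import Cfsg.Agent.RankThreeON.Abel

/-!
# Frame of S1730 [ON]: `T` is abelian and homocyclic, main theorem
-/

set_option autoImplicit false

namespace Cfsg.Agent.RankThreeON.Setup

open Subgroup Pencil EndL
open Cfsg.Agent.StdL2

variable {G : Type*} [Group G]

def eD : F ≃+ F where
  toFun := mD
  invFun f := (f.1 + f.2.1, f.2.2, f.1) 
  left_inv := by intro v; revert v; decide
  right_inv := by intro v; revert v; decide
  map_add' := by intro v w; revert v w; decide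

theorem mD_fix : ∀ f : F, mD f = f → f = 0 := by decide
theorem mD8 : ∀ f : F, mD (mD (mD (mD (mD (mD (mD (mD f))))))) = mD f := by decide

theorem cj_eD_D : cj eD D = D := by
  rw [eq_mk (cj eD D)]
  rfl

theorem cj_eD_id : cj eD (AddMonoidHom.id F) = AddMonoidHom.id F := by
  apply AddMonoidHom.ext
  intro v
  rw [cj_apply, AddMonoidHom.id_apply, AddEquiv.apply_symm_apply, AddMonoidHom.id_apply]

theorem D_ne_zero : D ≠ 0 := by
  intro h
  have h1 := congrArg (fun φ : F →+ F => φ (1, 0, 0)) h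
  have h2 : D (1, 0, 0) = (0, 1, 0) := by decide
  have h3 : D (1, 0, 0) = 0 := h1
  rw [h2] at h3
  exact absurd h3 (by decide)

theorem id_ne_zero : AddMonoidHom.id F ≠ 0 := by
  intro h
  have h1 := congrArg (fun φ : F →+ F => φ (1, 0, 0)) h
  have h3 : ((1, 0, 0) : F) = 0 := h1
  exact absurd h3 (by decide)

namespace FH

variable {A T N : Subgroup G} {e : F → G} {l : G → F}

/-- an element of odd order inducing `D` -/
theorem exists_seven [Finite G] (h : FH A T N) (c : Crd A e l) :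
    ∃ d ∈ N, Odd (orderOf d) ∧ ∀ f, d * e f * d⁻¹ = e (mD f) := by
  obtain ⟨n, hn, hnσ⟩ := h.exists_ind c eD
  obtain ⟨a, m, hm, hord⟩ := Nat.exists_eq_two_pow_mul_odd (n := orderOf n) (orderOf_pos n).ne'
  have hact : ∀ (j : ℕ) (f : F), n ^ 8 ^ j * e f * (n ^ 8 ^ j)⁻¹ = e (mD f) := by
    intro j
    induction j with
    | zero => intro f; rw [pow_zero, pow_one]; exact hnσ f
    | succ j ih =>
      intro f
      have h1 : n ^ 8 ^ (j + 1) = n ^ 8 ^ j * (n ^ 8 ^ j * (n ^ 8 ^ j * (n ^ 8 ^ j * (n ^ 8 ^ j *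
          (n ^ 8 ^ j * (n ^ 8 ^ j * n ^ 8 ^ j)))))) := by
        rw [pow_succ, pow_mul]
        generalize n ^ 8 ^ j = x
        simp only [pow_succ, pow_zero, one_mul, mul_assoc]
      rw [h1, act_mul ih (act_mul ih (act_mul ih (act_mul ih (act_mul ih (act_mul ih (act_mul ih ih)))))), mD8]
  refine ⟨n ^ 8 ^ a, N.pow_mem hn _, ?_, hact a⟩
  have h1 : (n ^ 8 ^ a) ^ m = 1 := by
    have h2 : (8 : ℕ) ^ a * m = orderOf n * 4 ^ a := by
      rw [hord, show (8 : ℕ) = 2 * 4 from rfl, mul_pow]; ring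
    rw [← pow_mul, h2, pow_mul, pow_orderOf_eq_one, one_pow]
  exact hm.of_dvd_nat (orderOf_dvd_of_pow_eq_one h1)

/-- such an element has no fixed points on `T` -/
theorem eq_one_of_seven (h : FH A T N) (c : Crd A e l) {d : G}
    (hd : ∀ f, d * e f * d⁻¹ = e (mD f)) {y : G} (hy : y ∈ T) (hdy : d * y = y * d) : y = 1 := by
  obtain ⟨k, hk⟩ := h.pT ⟨y, hy⟩
  have hk' : y ^ 2 ^ k = 1 := congrArg Subtype.val hk
  clear hk
  have key : ∀ k : ℕ, y ^ 2 ^ k = 1 → y = 1 := by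
    intro k
    induction k with
    | zero => intro h1; rwa [pow_zero, pow_one] at h1
    | succ k ih =>
      intro h1
      apply ih
      set z := y ^ 2 ^ k with hz
      have hz2 : z * z = 1 := by rw [hz, ← pow_two, ← pow_mul, ← pow_succ]; exact h1
      have hzA : z ∈ A := h.om z (T.pow_mem hy _) hz2
      have hdz : d * z * d⁻¹ = z := by
        have h2 : Commute d z := (show Commute d y from hdy).pow_right _
        rw [h2.eq, mul_inv_cancel_right]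
      have h3 := c.l_conj hd hzA
      rw [hdz] at h3
      exact c.eq_one hzA (mD_fix _ h3.symm)
  exact key k hk'

/-- the centre of `T` -/
def Zt (T : Subgroup G) : Subgroup G := T ⊓ centralizer (T : Set G)

theorem mem_Zt {T : Subgroup G} {x : G} : x ∈ Zt T ↔ x ∈ T ∧ ∀ t ∈ T, x * t = t * x := by
  unfold Zt
  rw [mem_inf, mem_centralizer_iff]
  exact ⟨fun hx => ⟨hx.1, fun t ht => (hx.2 t ht).symm⟩, fun hx => ⟨hx.1, fun t ht => (hx.2 t ht).symm⟩⟩

theorem cn_Zt (T : Subgroup G) : Cn (Zt T) T := fun _ hm _ ht => (mem_Zt.1 hm).2 _ ht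

theorem Zt_N (h : FH A T N) : ∀ n ∈ N, ∀ m ∈ Zt T, n * m * n⁻¹ ∈ Zt T := by
  intro n hn m hm
  rw [mem_Zt] at hm ⊢
  refine ⟨h.NTm hn hm.1, fun t ht => ?_⟩
  have h1 := hm.2 _ (h.NTm' hn t ht)
  calc n * m * n⁻¹ * t = n * (m * (n⁻¹ * t * n)) * n⁻¹ := by group
    _ = n * ((n⁻¹ * t * n) * m) * n⁻¹ := by rw [h1]
    _ = t * (n * m * n⁻¹) := by group

/-- **`T` is abelian** -/
theorem comm_T [Finite G] (h : FH A T N) : ∀ x ∈ T, ∀ y ∈ T, x * y = y * x := by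
  classical
  obtain ⟨e, l, c⟩ := exists_crd h.oct
  set M := Zt T with hMdef
  have hM : Cn M T := cn_Zt T
  have hMT : M ≤ T := fun x hx => (mem_Zt.1 hx).1
  have hAM : A ≤ M := fun a ha => mem_Zt.2 ⟨h.AT ha, fun t ht => h.cn a ha t ht⟩
  have hMc : ∀ x ∈ M, ∀ y ∈ M, x * y = y * x := fun x hx y hy => hM x hx y (hMT hy)
  by_contra hcon
  have hne : ¬ T ≤ M := by
    intro hle
    exact hcon (fun x hx y hy => hM x (hle hx) y hy)
  obtain ⟨n, hexp, hroot⟩ := h.exists_exp hMT hAM h.Zt_N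
  -- `U`
  set U := US M T hM with hU
  obtain ⟨u0, hu0, hu0M⟩ := exists_mem_US h.pT hM hMT hne
  have hUT : ∀ u ∈ U, u ∈ T := fun u hu => (mem_US.1 hu).1
  have hU2 : ∀ u ∈ U, u * u ∈ M := fun u hu => (mem_US.1 hu).2.1
  have hUc : ∀ u ∈ U, ∀ t ∈ T, cm u t ∈ M := fun u hu => (mem_US.1 hu).2.2
  have hUN : ∀ x ∈ N, ∀ u ∈ U, x * u * x⁻¹ ∈ U := fun x hx u hu =>
    US_conj (fun _ ht => h.NTm hx ht) (h.NTm' hx) (fun _ hm => h.Zt_N x hx _ hm) hu
  have hcA : ∀ u ∈ U, ∀ t ∈ T, cm u t ∈ A := fun u hu t ht =>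
    h.om _ (hMT (hUc u hu t ht)) (cm_sq hu ht)
  -- `λ`
  set L : G → G := fun u => (u * u) ^ 2 ^ n with hL
  have hLA : ∀ u ∈ U, L u ∈ A := by
    intro u hu
    refine h.om _ (T.pow_mem (hMT (hU2 u hu)) _) ?_
    have h1 := hexp _ (hU2 u hu)
    rwa [pow_succ, pow_mul, pow_two] at h1
  have hLmul : ∀ u ∈ U, ∀ v ∈ U, L (u * v) = L u * L v := by
    intro u hu v hv
    change ((u * v) * (u * v)) ^ 2 ^ n = (u * u) ^ 2 ^ n * (v * v) ^ 2 ^ n
    rw [sq_mul hM (hUT u hu) (hUc v hv u (hUT u hu))]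
    have e1 : Commute (cm v u) ((u * u) * (v * v)) :=
      hMc _ (hUc v hv u (hUT u hu)) _ (M.mul_mem (hU2 u hu) (hU2 v hv))
    have e2 : Commute (u * u) (v * v) := hMc _ (hU2 u hu) _ (hU2 v hv)
    rw [e1.mul_pow, e2.mul_pow]
    have e3 : cm v u ^ 2 ^ n = 1 := by
      cases n with
      | zero =>
        -- `M = A`
        have hMA : M ≤ A := fun m hm => h.om m (hMT hm) (by
          have := hexp m hm
          rwa [zero_add, pow_one, pow_two] at this)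
        have hUA : ∀ w ∈ U, w ∈ US A T h.cn := fun w hw =>
          mem_US.2 ⟨hUT w hw, hMA (hU2 w hw), fun t ht => hMA (hUc w hw t ht)⟩
        rw [cm_eq_one.2 (h.comm_US (hUA v hv) (hUA u hu)), one_pow]
      | succ k =>
        rw [pow_succ', pow_mul, pow_two, cm_sq hv (hUT u hu), one_pow]
    rw [e3, one_mul]
  have hLker : ∀ u ∈ U, L u = 1 → u ∈ M := by
    intro u hu h1
    obtain ⟨m, hm, hum⟩ := h.exists_sqrt hMT hMc hroot n le_rfl _ (hU2 u hu) h1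
    have h2 : m⁻¹ * u = u * m⁻¹ := hM _ (M.inv_mem hm) u (hUT u hu)
    have h3 : (u * m⁻¹) * (u * m⁻¹) = 1 := by
      calc (u * m⁻¹) * (u * m⁻¹) = u * (m⁻¹ * u) * m⁻¹ := by group
        _ = u * (u * m⁻¹) * m⁻¹ := by rw [h2]
        _ = (u * u) * (m⁻¹ * m⁻¹) := by group
        _ = 1 := by rw [hum]; group
    have h4 := hAM (h.om _ (T.mul_mem (hUT u hu) (T.inv_mem (hMT hm))) h3)
    have h5 : u = (u * m⁻¹) * m := by group
    rw [h5]
    exact M.mul_mem h4 hm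
  have hLM : ∀ m ∈ M, L m = 1 := by
    intro m hm
    have h1 := hexp m hm
    change (m * m) ^ 2 ^ n = 1
    rwa [pow_succ, mul_comm, pow_mul, pow_two] at h1
  have hLN : ∀ x u : G, L (x * u * x⁻¹) = x * L u * x⁻¹ := by
    intro x u
    change ((x * u * x⁻¹) * (x * u * x⁻¹)) ^ 2 ^ n = x * (u * u) ^ 2 ^ n * x⁻¹
    rw [← conj_pow]
    congr 1
    group
  have hLsurj : ∀ a ∈ A, ∃ u ∈ U, L u = a := by
    intro a ha
    by_cases ha1 : a = 1
    · exact ⟨1, U.one_mem, by rw [ha1]; exact hLM 1 M.one_mem⟩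
    have h1 : L u0 ≠ 1 := fun h2 => hu0M (hLker u0 hu0 h2)
    obtain ⟨x, hx, hxa⟩ := h.trans_A (hLA u0 hu0) ha h1 ha1
    exact ⟨x * u0 * x⁻¹, hUN x hx u0 hu0, by rw [hLN, hxa]⟩
  -- representatives
  have hw : ∀ f : F, ∃ u ∈ U, l (L u) = f := by
    intro f
    obtain ⟨u, hu, hLu⟩ := hLsurj (e f) (c.mem f)
    exact ⟨u, hu, by rw [hLu, c.le]⟩
  choose w hwU hwl using hw
  have hwell : ∀ u ∈ U, ∀ v ∈ U, l (L u) = l (L v) → ∀ t ∈ T, cm u t = cm v t := by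
    intro u hu v hv huv t ht
    have h1 := c.l_inj (hLA u hu) (hLA v hv) huv
    have h2 : L (v⁻¹ * u) = 1 := by
      have h3 : L u = L v * L (v⁻¹ * u) := by
        rw [← hLmul v hv _ (U.mul_mem (U.inv_mem hv) hu), mul_inv_cancel_left]
      rw [← h1] at h3
      exact (left_eq_mul.1 h3)
    have h4 := hLker _ (U.mul_mem (U.inv_mem hv) hu) h2
    have h5 : u = v * (v⁻¹ * u) := by group
    have h6 : cm (v⁻¹ * u) t = 1 := cm_eq_one.2 (hM _ h4 t ht)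
    rw [h5, cm_mul_left hM (hUT v hv) (by rw [h6]; exact M.one_mem), h6, one_mul]
  -- the set of endomorphisms
  let Φ : (F →+ F) → G → Prop := fun φ t => ∀ u ∈ U, φ (l (L u)) = l (cm u t)
  have hΦ : ∀ t ∈ T, ∃ φ, Φ φ t := by
    intro t ht
    refine ⟨{ toFun := fun f => l (cm (w f) t)
              map_zero' := ?_
              map_add' := ?_ }, ?_⟩
    · have h1 : cm (w 0) t = cm 1 t := hwell _ (hwU 0) _ U.one_mem (by
        rw [hwl, hLM 1 M.one_mem, c.l1]) t ht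
      have h2 : cm (1 : G) t = 1 := cm_eq_one.2 (by rw [one_mul, mul_one])
      rw [h1, h2, c.l1]
    · intro f g
      have h1 : cm (w (f + g)) t = cm (w f * w g) t := hwell _ (hwU _) _ (U.mul_mem (hwU f) (hwU g)) (by
        rw [hwl, hLmul _ (hwU f) _ (hwU g), c.ladd (hLA _ (hwU f)) (hLA _ (hwU g)), hwl, hwl]) t ht
      rw [h1, cm_mul_left hM (hUT _ (hwU f)) (hUc _ (hwU g) t ht),
        c.ladd (hcA _ (hwU g) t ht) (hcA _ (hwU f) t ht), add_comm]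
    · intro u hu
      change l (cm (w (l (L u))) t) = l (cm u t)
      rw [hwell _ (hwU _) u hu (hwl _) t ht]
  let E : Set (F →+ F) := {φ | ∃ t ∈ T, Φ φ t}
  have hadd : ∀ φ ∈ E, ∀ ψ ∈ E, φ + ψ ∈ E := by
    rintro φ ⟨t, ht, hφ⟩ ψ ⟨t', ht', hψ⟩
    refine ⟨t * t', T.mul_mem ht ht', fun u hu => ?_⟩
    rw [AddMonoidHom.add_apply, hφ u hu, hψ u hu, cm_mul_right hM ht (hUc u hu t' ht'),
      c.ladd (hcA u hu t ht) (hcA u hu t' ht')]
  have hconj' : ∀ (σ : F ≃+ F) (x : G), x ∈ N → (∀ f, x * e f * x⁻¹ = e (σ f)) → ∀ φ t, t ∈ T →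
      Φ φ t → Φ (cj σ φ) (x * t * x⁻¹) := by
    intro σ x hx hxσ φ t ht hφ u hu
    set u' := x⁻¹ * u * x with hu'
    have hu'U : u' ∈ U := by
      have := hUN x⁻¹ (N.inv_mem hx) u hu
      rwa [inv_inv] at this
    have h1 : u = x * u' * x⁻¹ := by rw [hu']; group
    have h2 : l (L u) = σ (l (L u')) := by
      rw [h1, hLN, c.l_conj hxσ (hLA u' hu'U)]
    rw [cj_apply, h2, AddEquiv.symm_apply_apply, hφ u' hu'U, ← c.l_conj hxσ (hcA u' hu'U t ht), cm_conj, ← h1]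
  have hconj : ∀ (σ : F ≃+ F), ∀ φ ∈ E, cj σ φ ∈ E := by
    rintro σ φ ⟨t, ht, hφ⟩
    obtain ⟨x, hx, hxσ⟩ := h.exists_ind c σ
    exact ⟨x * t * x⁻¹, h.NTm hx ht, hconj' σ x hx hxσ φ t ht hφ⟩
  -- a nonzero member
  obtain ⟨t0, ht0, hut0⟩ : ∃ t ∈ T, cm u0 t ≠ 1 := by
    by_contra hcon2
    push Not at hcon2
    exact hu0M (mem_Zt.2 ⟨hUT u0 hu0, fun t ht => cm_eq_one.1 (hcon2 t ht)⟩)
  obtain ⟨φ0, hφ0⟩ := hΦ t0 ht0
  have hφ0ne : φ0 ≠ 0 := by
    intro h0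
    have h1 := hφ0 u0 hu0
    rw [h0] at h1
    exact hut0 (c.eq_one (hcA u0 hu0 t0 ht0) h1.symm)
  -- the contradiction
  have hfinal : ∀ ψ ∈ E, cj eD ψ = ψ → ψ ≠ 0 → False := by
    rintro ψ ⟨t, ht, hψ⟩ hcjψ hψ0
    obtain ⟨d, hd, hodd, hdact⟩ := h.exists_seven c
    have h1 := hconj' eD d hd hdact ψ t ht hψ
    rw [hcjψ] at h1
    let C : Subgroup G := T ⊓ centralizer (U : Set G)
    have hC2 : IsPGroup 2 C := h.pT.to_le inf_le_left
    have hCmem : ∀ x, x ∈ C ↔ x ∈ T ∧ ∀ u ∈ U, cm u x = 1 := by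
      intro x
      change x ∈ T ⊓ centralizer (U : Set G) ↔ _
      rw [mem_inf, mem_centralizer_iff]
      exact ⟨fun hx => ⟨hx.1, fun u hu => cm_eq_one.2 (hx.2 u hu)⟩,
        fun hx => ⟨hx.1, fun u hu => cm_eq_one.1 (hx.2 u hu)⟩⟩
    have hCd : ∀ x ∈ C, d * x * d⁻¹ ∈ C := by
      intro x hx
      rw [hCmem] at hx ⊢
      refine ⟨h.NTm hd hx.1, fun u hu => ?_⟩
      have hu'U : d⁻¹ * u * d ∈ U := by
        have := hUN d⁻¹ (N.inv_mem hd) u hu
        rwa [inv_inv] at this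
      have h2 := hx.2 _ hu'U
      have h3 : cm u (d * x * d⁻¹) = d * cm (d⁻¹ * u * d) x * d⁻¹ := by
        rw [cm_conj]; congr 1; group
      rw [h3, h2, mul_one, mul_inv_cancel]
    have hdt := h.NTm hd ht
    have hx : t⁻¹ * (d * t * d⁻¹) ∈ C := by
      rw [hCmem]
      refine ⟨T.mul_mem (T.inv_mem ht) hdt, fun u hu => ?_⟩
      have h2 : cm u t = cm u (d * t * d⁻¹) := by
        apply c.l_inj (hcA u hu t ht) (hcA u hu _ hdt)
        rw [← hψ u hu, ← h1 u hu]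
      have h3 := cm_mul_right hM (u := u) (t := t) (t' := t⁻¹ * (d * t * d⁻¹)) ht
        (hUc u hu _ (T.mul_mem (T.inv_mem ht) hdt))
      rw [mul_inv_cancel_left, ← h2] at h3
      exact left_eq_mul.1 h3
    obtain ⟨y, hy1, hy2⟩ := Cfsg.Agent.TwoFusion.GoldJBasic.exists_fixed_odd d hodd C hC2 hCd t hx
    have hyT : y ∈ T := by
      have h4 : y = t * (t⁻¹ * y) := by group
      rw [h4]
      exact T.mul_mem ht ((hCmem _).1 hy1).1
    have hy0 := h.eq_one_of_seven c hdact hyT hy2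
    rw [hy0, mul_one] at hy1
    have htC : t ∈ C := by
      have := C.inv_mem hy1
      rwa [inv_inv] at this
    apply hψ0
    apply AddMonoidHom.ext
    intro f
    have h5 := hψ (w f) (hwU f)
    rw [hwl, ((hCmem t).1 htC).2 _ (hwU f), c.l1] at h5
    rw [h5]; rfl
  obtain ⟨t1, ht1⟩ := hΦ t0 ht0
  rcases mem_of_ne_zero hadd hconj ⟨t0, ht0, hφ0⟩ hφ0ne with h1 | h1
  · exact hfinal _ h1 cj_eD_id id_ne_zero
  · exact hfinal _ h1 cj_eD_D D_ne_zero

/-- **Frame (F1)**: `T` is abelian and homocyclic of rank 3 -/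
theorem main [Finite G] (h : FH A T N) : (∀ x ∈ T, ∀ y ∈ T, x * y = y * x) ∧
    ∃ n, Nat.card T = 8 ^ (n + 1) ∧ (∀ m ∈ T, m ^ 2 ^ (n + 1) = 1) ∧ ∀ a ∈ A, ∃ m ∈ T, m ^ 2 ^ n = a :=
  ⟨h.comm_T, h.homocyclic le_rfl h.AT (fun _ hn _ hm => h.NTm hn hm) h.comm_T⟩

end FH

end Cfsg.Agent.RankThreeON.Setup
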