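import Mathlib
import Cfsg.Prelude.Def_CaseTheorems
import Cfsg.Agent.SmallSimple.Simple168Max
import Cfsg.Agent.TwoFusion.SelfCentQQMain
import Cfsg.Agent.RankThreeON.AbelMain
import Cfsg.Agent.ONType.Sit
import Cfsg.Agent.Lib.SylowNormalInf

/-!
# Frame of S1730 [ON]: from `7 ∣ |N(A) : C(A)|` to the frame `ONType.Sit.Frame`

`S` is a Sylow 2-subgroup of a group of 2-rank at most 3, `A ≤ S` elementary abelian of order 8 and normal in `S`,
`7` divides `|N_G(A) : C_G(A)|` and `S` does not centralise `A`.  Then `N_G(T)`, `T = C_S(A)`, induces all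
automorphisms of `A` (`Hyp.full`), `T` is homocyclic and `|S : T| = 8` (`Hyp.frame`).
-/

set_option autoImplicit false
set_option linter.unusedSectionVars false
set_option linter.style.haveILetI false

namespace Cfsg.Agent.RankThreeON.FrameTwo

open Subgroup Cfsg.Agent.StdL2 Cfsg.Agent.RankThreeON.Setup

variable {G : Type*} [Group G] [Finite G]

/-- a group of automorphisms of an elementary abelian group of order 8 with order divisible by 14 is everything -/
theorem eq_top_of_fourteen {V : Subgroup G} (h : G23Aut.Oct V)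
    (X : Subgroup (MulAut V)) (h2 : 2 ∣ Nat.card X) (h7 : 7 ∣ Nat.card X) : X = ⊤ := by
  haveI := h.simple_aut
  haveI := h.finite_aut
  by_contra hX
  obtain ⟨M, hM, hXM⟩ := (eq_top_or_exists_le_coatom X).resolve_left hX
  have h14 : 14 ∣ Nat.card M :=
    (Nat.Coprime.mul_dvd_of_dvd_of_dvd (by norm_num : Nat.Coprime 2 7) h2 h7).trans (card_dvd_of_le hXM)
  rcases Cfsg.Agent.SmallSimple.Simple168Max.isCoatom_cases h.card_aut M hM with ⟨P, hP⟩ | ⟨U, hU, hMU⟩
  · rw [hP, Cfsg.Agent.SmallSimple.Simple168.card_normalizer_seven h.card_aut P] at h14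
    omega
  · rw [hMU, Cfsg.Agent.SmallSimple.Simple168Klein.card_normalizer h.card_aut hU] at h14
    omega

/-- the hypotheses -/
structure Hyp (S : Sylow 2 G) (A : Subgroup G) : Prop where
  rank : Cfsg.PRankLE 2 3 G
  oct : G23Aut.Oct A
  AS : A ≤ (S : Subgroup G)
  norm : (S : Subgroup G) ≤ normalizer (A : Set G)
  seven : 7 ∣ (centralizer (A : Set G)).relIndex (normalizer (A : Set G))
  ncen : ¬ (S : Subgroup G) ≤ centralizer (A : Set G)

/-- the local version: `Q` is a Sylow 2-subgroup of `N(A)` -/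
structure HypQ (Q A : Subgroup G) : Prop where
  rank : Cfsg.PRankLE 2 3 G
  oct : G23Aut.Oct A
  AQ : A ≤ Q
  pQ : IsPGroup 2 Q
  norm : Q ≤ normalizer (A : Set G)
  odd : ¬ 2 ∣ Q.relIndex (normalizer (A : Set G))
  seven : 7 ∣ (centralizer (A : Set G)).relIndex (normalizer (A : Set G))

theorem Hyp.toQ {S : Sylow 2 G} {A : Subgroup G} (h : Hyp S A) : HypQ (S : Subgroup G) A where
  rank := h.rank
  oct := h.oct
  AQ := h.AS
  pQ := S.2
  norm := h.norm
  odd := fun h2 => S.not_dvd_index (h2.trans (relIndex_dvd_index_of_le h.norm))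
  seven := h.seven

/-- elementary abelian subgroups have order at most 8 -/
theorem card_le_eight (h : Cfsg.PRankLE 2 3 G) (E : Subgroup G) (hE : ∀ x ∈ E, x * x = 1) :
    Nat.card E ≤ 8 := by
  have h1 := h E ⟨⟨fun a b => G23Aut.comm_of_sq (V := E) (fun v => Subtype.ext (hE v v.2)) a b⟩⟩
    (fun a ha => by rw [pow_two]; exact hE a ha)
  simpa using h1

/-- an involution centralising `A` is in `A` -/
theorem mem_of_sq (hr : Cfsg.PRankLE 2 3 G) {A : Subgroup G} (oct : G23Aut.Oct A) {t : G}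
    (ht : t * t = 1) (hc : ∀ a ∈ A, t * a = a * t) : t ∈ A := by
  by_contra htA
  obtain ⟨h1, h2, -⟩ := Cfsg.Agent.TwoFusion.SelfCentQQMain.Elem.adjoin (A := A) (w := t)
    ⟨fun a ha b hb => oct.comm ha hb, oct.sq⟩ ht (fun a ha => (hc a ha).symm) htA
  have h3 := card_le_eight hr _ h1.sq
  rw [h2, oct.card] at h3
  omega

/-- a 2-subgroup of `C` of odd index is contained in no larger 2-subgroup of `C` -/
theorem le_of_odd_relIndex {C P Q : Subgroup G} (hPQ : P ≤ Q) (hQC : Q ≤ C) (hidx : ¬ 2 ∣ P.relIndex C)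
    (hQ : IsPGroup 2 Q) : Q ≤ P := by
  have hf2 : Fact (Nat.Prime 2) := ⟨Nat.prime_two⟩
  have h1 : P.relIndex Q * Q.relIndex C = P.relIndex C := relIndex_mul_relIndex P Q C hPQ hQC
  have h2 : ¬ 2 ∣ P.relIndex Q := fun h => hidx (h.trans ⟨_, h1.symm⟩)
  have hfi : (P.subgroupOf Q).FiniteIndex := inferInstance
  obtain ⟨k, hk⟩ := hQ.index (P.subgroupOf Q)
  have hk' : P.relIndex Q = 2 ^ k := hk
  have hk0 : k = 0 := by
    by_contra hne
    apply h2
    rw [hk']
    exact dvd_pow_self 2 hne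
  rw [hk0, pow_zero, relIndex_eq_one] at hk'
  exact hk'

/-- abbreviation for `C_Q(A)` -/
def TT (Q A : Subgroup G) : Subgroup G := Q ⊓ centralizer (A : Set G)

theorem mem_TT {Q A : Subgroup G} {x : G} :
    x ∈ TT Q A ↔ x ∈ Q ∧ ∀ a ∈ A, x * a = a * x := by
  unfold TT
  rw [mem_inf, mem_centralizer_iff]
  exact ⟨fun hx => ⟨hx.1, fun a ha => (hx.2 a ha).symm⟩, fun hx => ⟨hx.1, fun a ha => (hx.2 a ha).symm⟩⟩

namespace HypQ

variable {Q A : Subgroup G}

/-- `T = C_Q(A)` is a Sylow 2-subgroup of `C(A)` -/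
theorem not_dvd (h : HypQ Q A) : ¬ 2 ∣ (TT Q A).relIndex (centralizer (A : Set G)) := by
  have hf2 : Fact (Nat.Prime 2) := ⟨Nat.prime_two⟩
  unfold TT
  rw [inf_relIndex_right]
  have hn : ((centralizer (A : Set G)).subgroupOf (normalizer (A : Set G))).Normal := by
    rw [← A.normalizerMonoidHom_ker]
    infer_instance
  have hp : IsPGroup 2 (Q.subgroupOf (normalizer (A : Set G))) := h.pQ.comap_subtype
  have h1 := Cfsg.Agent.Lib.SylowNormalInf.not_dvd_relIndex (hp.toSylow h.odd)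
    ((centralizer (A : Set G)).subgroupOf (normalizer (A : Set G)))
  have h2 : ((hp.toSylow h.odd : Sylow 2 (normalizer (A : Set G))) : Subgroup (normalizer (A : Set G))) =
      Q.subgroupOf (normalizer (A : Set G)) := rfl
  rw [h2, relIndex_subgroupOf (centralizer_le_normalizer _)] at h1
  exact h1

theorem om (h : HypQ Q A) : ∀ t ∈ TT Q A, t * t = 1 → t ∈ A :=
  fun _ ht ht2 => mem_of_sq h.rank h.oct ht2 (mem_TT.1 ht).2

theorem A_le (h : HypQ Q A) : A ≤ TT Q A := fun _ ha => mem_TT.2 ⟨h.AQ ha, fun _ hb => h.oct.comm ha hb⟩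

theorem pT (h : HypQ Q A) : IsPGroup 2 (TT Q A) := h.pQ.to_le inf_le_left

theorem norm_le (h : HypQ Q A) : normalizer (TT Q A : Set G) ≤ normalizer (A : Set G) := by
  have key : ∀ g ∈ normalizer (TT Q A : Set G), ∀ a ∈ A, g * a * g⁻¹ ∈ A := by
    intro g hg a ha
    refine h.om _ ((mem_normalizer_iff.1 hg a).1 (h.A_le ha)) ?_
    have h1 : g * a * g⁻¹ * (g * a * g⁻¹) = g * (a * a) * g⁻¹ := by group
    rw [h1, h.oct.sq a ha, mul_one, mul_inv_cancel]
  intro g hg
  rw [mem_normalizer_iff]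
  intro a
  refine ⟨key g hg a, fun ha => ?_⟩
  have h1 := key g⁻¹ (inv_mem hg) _ ha
  have h2 : g⁻¹ * (g * a * g⁻¹) * g⁻¹⁻¹ = a := by group
  rwa [h2] at h1

/-- the automorphisms induced by `N(A)` -/
theorem img_top (h : HypQ Q A) (hn : ¬ Q ≤ centralizer (A : Set G)) : G23Aut.img (normalizer (A : Set G)) A = ⊤ := by
  have h1 := G23Aut.card_img_mul (K := normalizer (A : Set G)) (V := A) le_rfl
  rw [inf_of_le_right (centralizer_le_normalizer _)] at h1
  have h2 : Nat.card (G23Aut.img (normalizer (A : Set G)) A) =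
      (centralizer (A : Set G)).relIndex (normalizer (A : Set G)) := by
    have h3 := Cfsg.Agent.Lib.SylowNormalInf.card_mul_relIndex (centralizer (A : Set G))
      (normalizer (A : Set G)) (centralizer_le_normalizer _)
    rw [← h1, mul_comm] at h3
    exact (Nat.eq_of_mul_eq_mul_right Nat.card_pos h3).symm
  apply eq_top_of_fourteen h.oct
  · -- the image of `S` is nontrivial
    have h3 := G23Aut.card_img_mul (K := Q) (V := A) h.norm
    have h4 : G23Aut.img Q A ≤ G23Aut.img (normalizer (A : Set G)) A := by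
      intro φ hφ
      obtain ⟨k, hk, hkn, hkv⟩ := G23Aut.mem_img.1 hφ
      exact G23Aut.mem_img.2 ⟨k, hkn, hkn, hkv⟩
    refine dvd_trans ?_ (card_dvd_of_le h4)
    have hf2 : Fact (Nat.Prime 2) := ⟨Nat.prime_two⟩
    obtain ⟨k, hk⟩ := IsPGroup.iff_card.1 h.pQ
    have h5 : Nat.card (G23Aut.img Q A) ∣ 2 ^ k := by
      rw [← hk]; exact ⟨_, h3.symm⟩
    obtain ⟨j, -, hj⟩ := (Nat.dvd_prime_pow Nat.prime_two).1 h5
    rw [hj]
    rcases Nat.eq_zero_or_pos j with rfl | hj0
    · exfalso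
      apply hn
      rw [hj, pow_zero, one_mul] at h3
      have h6 : Q ⊓ centralizer (A : Set G) = Q :=
        eq_of_le_of_card_ge inf_le_left (by rw [h3])
      rw [← h6]
      exact inf_le_right
    · exact dvd_pow_self 2 hj0.ne'
  · rw [h2]; exact h.seven

/-- **`N(T)` induces all automorphisms of `A`** -/
theorem full (h : HypQ Q A) (hn : ¬ Q ≤ centralizer (A : Set G)) : G23Aut.Full (normalizer (TT Q A : Set G)) A := by
  intro φ
  obtain ⟨g, -, hg, hgv⟩ := G23Aut.mem_img.1 (show φ ∈ G23Aut.img (normalizer (A : Set G)) A by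
    rw [h.img_top hn]; trivial)
  have hcen : ∀ x ∈ centralizer (A : Set G), g * x * g⁻¹ ∈ centralizer (A : Set G) := by
    intro x hx
    rw [mem_centralizer_iff] at hx ⊢
    intro a ha
    have h1 : g⁻¹ * a * g ∈ A := by
      have := (mem_normalizer_iff.1 (inv_mem hg) a).1 ha
      rwa [inv_inv] at this
    have h2 := hx _ h1
    calc a * (g * x * g⁻¹) = g * ((g⁻¹ * a * g) * x) * g⁻¹ := by group
      _ = g * (x * (g⁻¹ * a * g)) * g⁻¹ := by rw [h2]
      _ = g * x * g⁻¹ * a := by group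
  obtain ⟨c, hc, hcT⟩ := exists_conj_le (C := centralizer (A : Set G)) (P := TT Q A)
    (Q := (TT Q A).map (MulAut.conj g).toMonoidHom) h.pT h.not_dvd (by
      rintro _ ⟨x, hx, rfl⟩
      exact hcen x hx.2) (h.pT.map _)
  have hcg : ∀ x ∈ TT Q A, (c * g) * x * (c * g)⁻¹ ∈ TT Q A := by
    intro x hx
    have h1 := hcT _ (mem_map_of_mem (MulAut.conj g).toMonoidHom hx)
    have h2 : c * ((MulAut.conj g).toMonoidHom x) * c⁻¹ = (c * g) * x * (c * g)⁻¹ := by
      change c * (g * x * g⁻¹) * c⁻¹ = _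
      group
    rwa [h2] at h1
  refine ⟨c * g, ?_, ?_⟩
  · have h3 : (TT Q A).map (MulAut.conj (c * g)).toMonoidHom = TT Q A := by
      apply eq_of_le_of_card_ge
      · rintro _ ⟨x, hx, rfl⟩
        exact hcg x hx
      · exact (Nat.card_congr ((TT Q A).equivMapOfInjective _ (MulAut.conj (c * g)).injective).toEquiv).le
    rw [mem_normalizer_iff]
    intro x
    refine ⟨hcg x, fun hx => ?_⟩
    have hx' : c * g * x * (c * g)⁻¹ ∈ (TT Q A).map (MulAut.conj (c * g)).toMonoidHom := by rw [h3]; exact hx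
    obtain ⟨y, hy, hyx⟩ := hx'
    have h4 : c * g * y * (c * g)⁻¹ = c * g * x * (c * g)⁻¹ := hyx
    rw [← mul_left_cancel (mul_right_cancel h4)]
    exact hy
  · intro v
    have h1 : c * g * (v : G) * (c * g)⁻¹ = c * (g * v * g⁻¹) * c⁻¹ := by group
    rw [h1, hgv v, ← (mem_centralizer_iff.1 hc) _ (φ v).2, mul_inv_cancel_right]

theorem S_le (h : HypQ Q A) : Q ≤ normalizer (TT Q A : Set G) := by
  have key : ∀ g ∈ Q, ∀ x ∈ TT Q A, g * x * g⁻¹ ∈ TT Q A := by
    intro g hg x hx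
    rw [mem_TT] at hx ⊢
    refine ⟨mul_mem (mul_mem hg hx.1) (inv_mem hg), fun a ha => ?_⟩
    have h1 : g⁻¹ * a * g ∈ A := by
      have := (mem_normalizer_iff.1 (inv_mem (h.norm hg)) a).1 ha
      rwa [inv_inv] at this
    have h2 := hx.2 _ h1
    calc g * x * g⁻¹ * a = g * (x * (g⁻¹ * a * g)) * g⁻¹ := by group
      _ = g * ((g⁻¹ * a * g) * x) * g⁻¹ := by rw [h2]
      _ = a * (g * x * g⁻¹) := by group
  intro g hg
  rw [mem_normalizer_iff]
  intro x
  refine ⟨key g hg x, fun hx => ?_⟩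
  have h1 := key g⁻¹ (inv_mem hg) _ hx
  have h2 : g⁻¹ * (g * x * g⁻¹) * g⁻¹⁻¹ = x := by group
  rwa [h2] at h1

/-- the hypotheses of (F1) -/
theorem fh (h : HypQ Q A) (hn : ¬ Q ≤ centralizer (A : Set G)) : FH A (TT Q A) (normalizer (TT Q A : Set G)) where
  oct := h.oct
  pT := h.pT
  AT := h.A_le
  om := h.om
  cen := fun _ ht a ha => (mem_TT.1 ht).2 a ha
  TN := le_normalizer
  NT := le_rfl
  full := h.full hn
  syl := by
    intro P hP hPN hPC
    have hf2 : Fact (Nat.Prime 2) := ⟨Nat.prime_two⟩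
    have h1 : IsPGroup 2 (P ⊔ TT Q A : Subgroup G) := hP.to_sup_of_normal_right' h.pT hPN
    have h2 : (P ⊔ TT Q A : Subgroup G) ≤ centralizer (A : Set G) := sup_le hPC inf_le_right
    exact le_sup_left.trans (le_of_odd_relIndex le_sup_right h2 h.not_dvd h1)

/-- `|S : T| = 8` -/
theorem card_img_S (h : HypQ Q A) (hn : ¬ Q ≤ centralizer (A : Set G)) : Nat.card (G23Aut.img Q A) = 8 := by
  have hf2 : Fact (Nat.Prime 2) := ⟨Nat.prime_two⟩
  haveI := h.oct.finite_aut
  -- `img S` is a 2-group of odd index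
  have h3 := G23Aut.card_img_mul (K := Q) (V := A) h.norm
  obtain ⟨k, hk⟩ := IsPGroup.iff_card.1 h.pQ
  have h5 : Nat.card (G23Aut.img Q A) ∣ 2 ^ k := by
    rw [← hk]; exact ⟨_, h3.symm⟩
  obtain ⟨j, -, hj⟩ := (Nat.dvd_prime_pow Nat.prime_two).1 h5
  have h6 : ¬ 2 ∣ (G23Aut.img Q A).index := by
    -- the index divides the index of `S` in `N(A)`
    have hsurj : Function.Surjective A.normalizerMonoidHom := by
      intro φ
      obtain ⟨g, -, hg, hgv⟩ := G23Aut.mem_img.1 (show φ ∈ G23Aut.img (normalizer (A : Set G)) A by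
        rw [h.img_top hn]; trivial)
      refine ⟨⟨g, hg⟩, ?_⟩
      ext v
      exact hgv v
    have h7 : (G23Aut.img Q A).index ∣
        (Q.subgroupOf (normalizer (A : Set G))).index := by
      unfold G23Aut.img
      exact index_map_dvd _ hsurj
    intro h8
    exact h.odd (h8.trans h7)
  have h7 := (G23Aut.img Q A).card_mul_index
  rw [h.oct.card_aut, hj] at h7
  rw [hj]
  have hj4 : j < 4 := by
    by_contra hcon
    push Not at hcon
    have h8 : 2 ^ 4 ∣ 168 := (pow_dvd_pow 2 hcon).trans ⟨_, h7.symm⟩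
    exact absurd h8 (by norm_num)
  interval_cases j <;> omega

theorem card_S (h : HypQ Q A) (hn : ¬ Q ≤ centralizer (A : Set G)) : Nat.card Q = 8 * Nat.card (TT Q A) := by
  have h3 := G23Aut.card_img_mul (K := Q) (V := A) h.norm
  rw [h.card_img_S hn] at h3
  exact h3.symm

end HypQ

namespace Hyp

variable {S : Sylow 2 G} {A : Subgroup G}

/-- **the frame** -/
theorem frame (h : Hyp S A) (hinv : ∃ y ∈ (S : Subgroup G), y ∉ centralizer (A : Set G) ∧ y * y = 1)
    (hTA : ¬ (S : Subgroup G) ⊓ centralizer (A : Set G) ≤ A) :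
    ∃ n, Cfsg.Agent.ONType.Sit.Frame n S (TT (S : Subgroup G) A) := by
  obtain ⟨hcomm, n, hcard, hexp, -⟩ := (h.toQ.fh h.ncen).main
  refine ⟨n + 1, ?_⟩
  refine
    { hn := ?_
      le := inf_le_left
      norm := h.toQ.S_le
      comm := hcomm
      card := hcard
      cardS := by rw [h.toQ.card_S h.ncen, hcard]
      exp := hexp
      eight := ?_
      self := ?_
      full := ?_
      inv := ?_
      no16 := fun E hE => card_le_eight h.rank E hE }
  · by_contra hn
    have hn0 : n = 0 := by omega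
    apply hTA
    rw [hn0, zero_add, pow_one] at hcard
    have h1 : A = TT (S : Subgroup G) A := eq_of_le_of_card_ge h.toQ.A_le (by rw [hcard, h.oct.card])
    exact h1.ge
  · rw [← h.oct.card]
    refine Nat.card_le_card_of_injective (fun t : {t : G // t ∈ TT (S : Subgroup G) A ∧ t * t = 1} =>
      (⟨t, h.toQ.om t t.2.1 t.2.2⟩ : A)) ?_
    intro a b hab
    exact Subtype.ext (congrArg (fun c : A => (c : G)) hab)
  · intro g hg hgt
    exact mem_TT.2 ⟨hg, fun a ha => hgt a (h.toQ.A_le ha) (h.oct.sq a ha)⟩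
  · intro a b c a' b' c' ha ha2 hb hb2 hc hc2 ha' ha2' hb' hb2' hc' hc2' hi hi'
    have key : ∀ x y w : G, x ∈ TT (S : Subgroup G) A → x * x = 1 → y ∈ TT (S : Subgroup G) A → y * y = 1 → w ∈ TT (S : Subgroup G) A → w * w = 1 →
        Cfsg.Agent.ONType.Span.Indep x y w → G23Aut.Bas A x y w := by
      rintro x y w hx hx2 hy hy2 hw hw2 ⟨i1, i2, i3, i4, i5, i6, i7⟩
      exact ⟨h.toQ.om x hx hx2, h.toQ.om y hy hy2, h.toQ.om w hw hw2, i1, i2, i3, i4, i5, i6, i7⟩
    obtain ⟨k, hk, -, h1, h2, h3⟩ := (h.toQ.full h.ncen).bas h.oct (key a b c ha ha2 hb hb2 hc hc2 hi)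
      (key a' b' c' ha' ha2' hb' hb2' hc' hc2' hi')
    exact ⟨k, hk, h1, h2, h3⟩
  · obtain ⟨y, hy, hyC, hy2⟩ := hinv
    exact ⟨y, hy, fun hyT => hyC hyT.2, hy2⟩

end Hyp

end Cfsg.Agent.RankThreeON.FrameTwo
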