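import Mathlib
import Cfsg.Prelude.Def_CaseTheorems
import Cfsg.Prelude.Def_TwoFusion
import Cfsg.Prelude.Def_Involutions
import Cfsg.Agent.TwoFusion.SecRank
import Cfsg.Agent.TwoFusion.SectionalRank
import Cfsg.Agent.S1232
import Cfsg.Agent.RankThreeON.FrameTwo

/-!
# S1730, (B7): an elementary abelian subgroup `E` of order 8 with `7 ∣ |N(E) : C(E)|`

`main`: in a simple group of 2-rank at most 3 and sectional 2-rank at least 5 such a subgroup yields a strongly
embedded subgroup or the frame `ONType.Sit.Frame`.  `Gold G` is Goldschmidt's theorem S1169 for `G`.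
-/

set_option autoImplicit false
set_option linter.unusedSectionVars false
set_option linter.style.haveILetI false

namespace Cfsg.Agent.RankThreeON.Seven

open Subgroup Cfsg.Agent.StdL2 Cfsg.Agent.RankThreeON.Setup Cfsg.Agent.RankThreeON.FrameTwo

variable {G : Type*} [Group G] [Finite G]

/-- the conclusion of S1169 -/
def Gold (G : Type*) [Group G] : Prop :=
  ∀ (S : Sylow 2 G) (A : Subgroup G), A ≠ ⊥ → IsMulCommutative A →
    Cfsg.IsStronglyClosed A (S : Subgroup G) → IsMulCommutative (S : Subgroup G) ∨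
      ∃ H : Subgroup G, Cfsg.IsStronglyEmbedded H

/-- normalisers grow -/
theorem exists_normalizing {Q S : Subgroup G} (hS : IsPGroup 2 S) (hQS : Q ≤ S) (hne : ¬ S ≤ Q) :
    ∃ s ∈ S, s ∉ Q ∧ ∀ x ∈ Q, s * x * s⁻¹ ∈ Q := by
  have hf2 : Fact (Nat.Prime 2) := ⟨Nat.prime_two⟩
  have hnil : Group.IsNilpotent S := hS.isNilpotent
  have hnc := Group.normalizerCondition_of_isNilpotent (G := S)
  rw [normalizerCondition_iff_only_full_group_self_normalizing] at hnc
  by_contra hcon
  push Not at hcon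
  have h1 := hnc (Q.subgroupOf S) (by
    refine le_antisymm ?_ le_normalizer
    intro g hg
    rw [mem_subgroupOf]
    by_contra hgQ
    obtain ⟨x, hx, hxQ⟩ := hcon g g.2 hgQ
    have h2 := (mem_normalizer_iff.1 hg ⟨x, hQS hx⟩).1 (mem_subgroupOf.2 hx)
    exact hxQ (mem_subgroupOf.1 h2))
  rw [subgroupOf_eq_top] at h1
  exact hne h1

/-- commutative 2-groups with few involutions have small sectional rank -/
theorem sectional_of_comm {S : Type*} [Group S] [Finite S] (hc : ∀ x y : S, x * y = y * x)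
    (E : Subgroup S) (hE : ∀ x : S, x * x = 1 → x ∈ E) (hE8 : Nat.card E ≤ 8) :
    Cfsg.SectionalPRankLE 2 4 S := by
  apply Cfsg.Agent.TwoFusion.SecRank.sectionalPRankLE_of_genLE
  intro K N hNK hsq
  -- squaring on `K`
  let f : K →* K :=
    { toFun := fun k => k * k
      map_one' := one_mul 1
      map_mul' := fun a b => by
        apply Subtype.ext
        change (a : S) * b * (a * b) = a * a * (b * b)
        have := hc b a
        calc (a : S) * b * (a * b) = a * (b * a) * b := by group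
          _ = a * (a * b) * b := by rw [this]
          _ = a * a * (b * b) := by group }
  have h1 : f.range ≤ N.subgroupOf K := by
    rintro _ ⟨k, rfl⟩
    rw [mem_subgroupOf]
    exact hsq k k.2
  have h2 : N.relIndex K ≤ f.range.index := by
    rw [relIndex]
    exact Nat.le_of_dvd (Nat.pos_of_ne_zero index_ne_zero_of_finite) (index_dvd_of_le h1)
  have h3 : f.range.index = Nat.card f.ker := by
    have h4 := f.range.card_mul_index
    have h5 := f.ker.card_mul_index
    rw [index_ker] at h5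
    have h6 : Nat.card f.range * f.range.index = Nat.card f.range * Nat.card f.ker := by
      rw [h4, mul_comm, h5]
    exact Nat.eq_of_mul_eq_mul_left Nat.card_pos h6
  have h4 : Nat.card f.ker ≤ Nat.card E := by
    refine Nat.card_le_card_of_injective (fun k : f.ker => (⟨(k : K), hE _ ?_⟩ : E)) ?_
    · have := k.2
      rw [MonoidHom.mem_ker] at this
      exact congrArg Subtype.val this
    · intro a b hab
      exact Subtype.ext (Subtype.ext (congrArg (fun c : E => (c : S)) hab))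
  omega

/-- choice of the Sylow subgroup -/
theorem exists_sylow_norm {E : Subgroup G} (hE : IsPGroup 2 E) :
    ∃ S : Sylow 2 G, E ≤ (S : Subgroup G) ⊓ normalizer (E : Set G) ∧
      ¬ 2 ∣ ((S : Subgroup G) ⊓ normalizer (E : Set G)).relIndex (normalizer (E : Set G)) := by
  have hf2 : Fact (Nat.Prime 2) := ⟨Nat.prime_two⟩
  obtain ⟨Q, hQN, hQ2, hidx⟩ := exists_syl (normalizer (E : Set G))
  obtain ⟨S, hS⟩ := hQ2.exists_le_sylow
  have h1 : (S : Subgroup G) ⊓ normalizer (E : Set G) = Q :=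
    le_antisymm (le_of_odd_relIndex (le_inf hS hQN) inf_le_right hidx (S.2.to_le inf_le_left))
      (le_inf hS hQN)
  refine ⟨S, ?_, by rw [h1]; exact hidx⟩
  have h2 : IsPGroup 2 (Q ⊔ E : Subgroup G) := hQ2.to_sup_of_normal_right' hE hQN
  have h3 : (Q ⊔ E : Subgroup G) ≤ Q := le_of_odd_relIndex le_sup_left (sup_le hQN le_normalizer) hidx h2
  rw [h1]
  exact le_sup_right.trans h3

/-- if all involutions of `S` lie in `E` then `E` is strongly closed -/
theorem strongly_closed {S : Sylow 2 G} {E : Subgroup G} (oct : G23Aut.Oct E) (hES : E ≤ (S : Subgroup G))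
    (h : ∀ y ∈ (S : Subgroup G), y * y = 1 → y ∈ E) : Cfsg.IsStronglyClosed E (S : Subgroup G) := by
  refine ⟨hES, fun x hx g hg => h _ hg ?_⟩
  have h1 : g * x * g⁻¹ * (g * x * g⁻¹) = g * (x * x) * g⁻¹ := by group
  rw [h1, oct.sq x hx, mul_one, mul_inv_cancel]

/-- the exit through Goldschmidt's theorem -/
theorem exit (hG : Gold G) {S : Sylow 2 G} {E : Subgroup G} (oct : G23Aut.Oct E)
    (hES : E ≤ (S : Subgroup G)) (h : ∀ y ∈ (S : Subgroup G), y * y = 1 → y ∈ E) :
    IsMulCommutative (S : Subgroup G) ∨ ∃ H : Subgroup G, Cfsg.IsStronglyEmbedded H := by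
  refine hG S E ?_ ?_ (strongly_closed oct hES h)
  · rintro rfl
    have := oct.card
    rw [Subgroup.card_bot] at this
    omega
  · exact ⟨⟨fun a b => G23Aut.comm_of_sq (V := E) (fun v => Subtype.ext (oct.sq v v.2)) a b⟩⟩

/-- an element normalising a subgroup whose involutions are in `E` normalises `E` -/
theorem mem_normalizer_of {R E : Subgroup G} (oct : G23Aut.Oct E) (hER : E ≤ R)
    (hom : ∀ y ∈ R, y * y = 1 → y ∈ E) {s : G} (hs : ∀ x ∈ R, s * x * s⁻¹ ∈ R) :
    s ∈ normalizer (E : Set G) := by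
  have h1 : ∀ a ∈ E, s * a * s⁻¹ ∈ E := by
    intro a ha
    refine hom _ (hs a (hER ha)) ?_
    have h1 : s * a * s⁻¹ * (s * a * s⁻¹) = s * (a * a) * s⁻¹ := by group
    rw [h1, oct.sq a ha, mul_one, mul_inv_cancel]
  have h3 : E.map (MulAut.conj s).toMonoidHom = E := by
    apply eq_of_le_of_card_ge
    · rintro _ ⟨x, hx, rfl⟩
      exact h1 x hx
    · exact (Nat.card_congr (E.equivMapOfInjective _ (MulAut.conj s).injective).toEquiv).le
  rw [mem_normalizer_iff]
  intro x
  refine ⟨h1 x, fun hx => ?_⟩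
  have hx' : s * x * s⁻¹ ∈ E.map (MulAut.conj s).toMonoidHom := by rw [h3]; exact hx
  obtain ⟨y, hy, hyx⟩ := hx'
  have h4 : s * y * s⁻¹ = s * x * s⁻¹ := hyx
  rw [← mul_left_cancel (mul_right_cancel h4)]
  exact hy

/-- a power of a 2-element outside a subgroup whose square is inside -/
theorem exists_pow_mem {R X : Subgroup G} (hX : IsPGroup 2 X) {y : G} (hy : y ∈ X) (hyR : y ∉ R) :
    ∃ x ∈ X, x ∉ R ∧ x * x ∈ R := by
  obtain ⟨k, hk⟩ := hX ⟨y, hy⟩
  have hk' : y ^ 2 ^ k = 1 := congrArg Subtype.val hk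
  clear hk
  have key : ∀ k : ℕ, ∀ y ∈ X, y ∉ R → y ^ 2 ^ k ∈ R → ∃ x ∈ X, x ∉ R ∧ x * x ∈ R := by
    intro k
    induction k with
    | zero =>
      intro y _ hyR h
      rw [pow_zero, pow_one] at h
      exact absurd h hyR
    | succ k ih =>
      intro y hy hyR h
      by_cases h1 : y * y ∈ R
      · exact ⟨y, hy, hyR, h1⟩
      · refine ih (y * y) (X.mul_mem hy hy) h1 ?_
        rw [← pow_two, ← pow_mul, ← pow_succ']
        exact h
  exact key k y hy hyR (by rw [hk']; exact R.one_mem)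

/-- **`E` is normal in `S`** in case `S ∩ N(E)` does not centralise `E` -/
theorem norm_of (hr : Cfsg.PRankLE 2 3 G) {E : Subgroup G} (oct : G23Aut.Oct E)
    (h7 : 7 ∣ (centralizer (E : Set G)).relIndex (normalizer (E : Set G))) {S : Sylow 2 G}
    (hE : E ≤ (S : Subgroup G) ⊓ normalizer (E : Set G))
    (hidx : ¬ 2 ∣ ((S : Subgroup G) ⊓ normalizer (E : Set G)).relIndex (normalizer (E : Set G)))
    (hns : ¬ (S : Subgroup G) ⊓ centralizer (E : Set G) ≤ E)
    (hnc : ¬ (S : Subgroup G) ⊓ normalizer (E : Set G) ≤ centralizer (E : Set G)) :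
    (S : Subgroup G) ≤ normalizer (E : Set G) := by
  set Q : Subgroup G := (S : Subgroup G) ⊓ normalizer (E : Set G) with hQ
  have hQ2 : IsPGroup 2 Q := S.2.to_le inf_le_left
  have h : HypQ Q E := ⟨hr, oct, hE, hQ2, inf_le_right, hidx, h7⟩
  obtain ⟨hcomm, n, hcard, hexp, hroot⟩ := (h.fh hnc).main
  have hTT : TT Q E = (S : Subgroup G) ⊓ centralizer (E : Set G) := by
    unfold TT
    rw [hQ, inf_assoc, inf_of_le_right (centralizer_le_normalizer _)]
  -- `n ≠ 0`
  have hn : n ≠ 0 := by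
    rintro rfl
    apply hns
    rw [← hTT]
    rw [zero_add, pow_one] at hcard
    exact (eq_of_le_of_card_ge h.A_le (by rw [hcard, oct.card])).ge
  by_contra hcon
  have hSQ : ¬ (S : Subgroup G) ≤ Q := fun hle => hcon (hle.trans inf_le_right)
  obtain ⟨s, hs, hsQ, hsn⟩ := exists_normalizing S.2 inf_le_left hSQ
  apply hsQ
  refine ⟨hs, ?_⟩
  refine mem_normalizer_of oct h.A_le h.om (?_ : ∀ x ∈ TT Q E, s * x * s⁻¹ ∈ TT Q E)
  -- `R^s ≤ R`
  set R := TT Q E with hR
  by_contra hcon2
  push Not at hcon2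
  obtain ⟨y0, hy0, hy0R⟩ := hcon2
  have hRQ : R ≤ Q := inf_le_left
  let Rs : Subgroup G := R.map (MulAut.conj s).toMonoidHom
  have hRs2 : IsPGroup 2 Rs := h.pT.map _
  obtain ⟨x, ⟨x', hx', hxx'⟩, hxR, hx2⟩ := exists_pow_mem (R := R) hRs2
    (y := s * y0 * s⁻¹) ⟨y0, hy0, rfl⟩ hy0R
  have hx'' : x = s * x' * s⁻¹ := hxx'.symm
  have hxQ : x ∈ Q := by rw [hx'']; exact hsn x' (hRQ hx')
  apply hxR
  refine mem_TT.2 ⟨hxQ, fun a ha => ?_⟩
  -- `a` is a square in `R`
  obtain ⟨m, hm, hma⟩ := hroot a ha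
  obtain ⟨r, hr', hra⟩ : ∃ r ∈ R, r * r = a := by
    obtain ⟨k, rfl⟩ := Nat.exists_eq_succ_of_ne_zero hn
    refine ⟨m ^ 2 ^ k, R.pow_mem hm _, ?_⟩
    rw [← pow_two, ← pow_mul, ← pow_succ]
    exact hma
  -- the commutator
  set c := x * r * x⁻¹ * r⁻¹ with hc
  have hxrR : x * r * x⁻¹ ∈ R := (mem_normalizer_iff.1 (h.S_le hxQ) r).1 hr'
  have hcR : c ∈ R := R.mul_mem hxrR (R.inv_mem hr')
  -- `c` commutes with `x`
  have hs' : ∀ q ∈ Q, s⁻¹ * q * s ∈ Q := by
    have h3 : Q.map (MulAut.conj s).toMonoidHom = Q := by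
      apply eq_of_le_of_card_ge
      · rintro _ ⟨z, hz, rfl⟩
        exact hsn z hz
      · exact (Nat.card_congr (Q.equivMapOfInjective _ (MulAut.conj s).injective).toEquiv).le
    intro q hq
    rw [← h3] at hq
    obtain ⟨z, hz, hzq⟩ := hq
    have h4 : q = s * z * s⁻¹ := hzq.symm
    rw [h4]
    have h5 : s⁻¹ * (s * z * s⁻¹) * s = z := by group
    rw [h5]; exact hz
  have hcs : s⁻¹ * c * s ∈ R := by
    -- `c = x (r x⁻¹ r⁻¹)`
    have h4 : s⁻¹ * c * s = x' * ((s⁻¹ * r * s) * x'⁻¹ * (s⁻¹ * r * s)⁻¹) := by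
      rw [hc, hx'']; group
    rw [h4]
    exact R.mul_mem hx' ((mem_normalizer_iff.1 (h.S_le (hs' r (hRQ hr'))) _).1 (R.inv_mem hx'))
  have hcx : x * c = c * x := by
    have h4 := hcomm _ hx' _ hcs
    have h5 : x * c = s * (x' * (s⁻¹ * c * s)) * s⁻¹ := by rw [hx'']; group
    have h6 : c * x = s * ((s⁻¹ * c * s) * x') * s⁻¹ := by rw [hx'']; group
    rw [h5, h6, h4]
  -- `c * c = 1`
  have h4 : x * r * x⁻¹ = c * r := by rw [hc]; group
  have h5 : (x * x) * r * (x * x)⁻¹ = c * c * r := by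
    calc (x * x) * r * (x * x)⁻¹ = x * (x * r * x⁻¹) * x⁻¹ := by group
      _ = x * (c * r) * x⁻¹ := by rw [h4]
      _ = (x * c) * r * x⁻¹ := by group
      _ = (c * x) * r * x⁻¹ := by rw [hcx]
      _ = c * (x * r * x⁻¹) := by group
      _ = c * (c * r) := by rw [h4]
      _ = c * c * r := by group
  have h6 : (x * x) * r * (x * x)⁻¹ = r := by rw [hcomm _ hx2 _ hr', mul_inv_cancel_right]
  have hcc : c * c = 1 := by
    rw [h5] at h6
    exact mul_eq_right.1 h6
  -- `x` centralises `r * r = a`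
  have h7 : x * a * x⁻¹ = a := by
    rw [← hra]
    calc x * (r * r) * x⁻¹ = (x * r * x⁻¹) * (x * r * x⁻¹) := by group
      _ = (c * r) * (c * r) := by rw [h4]
      _ = c * (r * c) * r := by group
      _ = c * (c * r) * r := by rw [hcomm r hr' c hcR]
      _ = (c * c) * (r * r) := by group
      _ = r * r := by rw [hcc, one_mul]
  exact mul_inv_eq_iff_eq_mul.1 h7

/-- **(B7)** -/
theorem main (hG : Gold G) (hr : Cfsg.PRankLE 2 3 G) (h4 : ¬ Cfsg.SectionalPRankLE 2 4 G)
    {E : Subgroup G} (oct : G23Aut.Oct E)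
    (h7 : 7 ∣ (centralizer (E : Set G)).relIndex (normalizer (E : Set G))) :
    (∃ H : Subgroup G, Cfsg.IsStronglyEmbedded H) ∨
      ∃ (n : ℕ) (S : Sylow 2 G) (T : Subgroup G), Cfsg.Agent.ONType.Sit.Frame n S T := by
  have hf2 : Fact (Nat.Prime 2) := ⟨Nat.prime_two⟩
  have hE2 : IsPGroup 2 E := by
    intro x
    refine ⟨1, ?_⟩
    rw [pow_one, pow_two]
    exact Subtype.ext (oct.sq x x.2)
  obtain ⟨S, hE, hidx⟩ := exists_sylow_norm hE2
  have hES : E ≤ (S : Subgroup G) := hE.trans inf_le_left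
  -- `E` is not self-centralising in `S`
  have hns : ¬ (S : Subgroup G) ⊓ centralizer (E : Set G) ≤ E := by
    intro hle
    apply h4
    apply Cfsg.Agent.TwoFusion.SectionalRank.sectionalPRankLE_of_sylow S
    refine Cfsg.Agent.S1232.result S.2 (E.subgroupOf S) ?_ ?_ ?_
    · refine ⟨⟨⟨fun a b => ?_⟩⟩, fun a ha => ?_⟩
      · exact Subtype.ext (Subtype.ext (oct.comm (mem_subgroupOf.1 a.2) (mem_subgroupOf.1 b.2)))
      · rw [pow_two]
        exact Subtype.ext (oct.sq _ (mem_subgroupOf.1 ha))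
    · rw [Nat.card_congr (subgroupOfEquivOfLe hES).toEquiv, oct.card]
    · ext x
      rw [mem_centralizer_iff, mem_subgroupOf]
      constructor
      · intro hx
        refine hle (mem_inf.2 ⟨x.2, mem_centralizer_iff.2 fun e he => ?_⟩)
        exact congrArg Subtype.val (hx ⟨e, hES he⟩ (mem_subgroupOf.2 he))
      · intro hx e he
        exact Subtype.ext (oct.comm (mem_subgroupOf.1 he) hx)
  -- commutative Sylow subgroups
  have hcomS : ¬ IsMulCommutative (S : Subgroup G) := by
    intro hc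
    apply h4
    apply Cfsg.Agent.TwoFusion.SectionalRank.sectionalPRankLE_of_sylow S
    refine sectional_of_comm (fun x y => hc.is_comm.comm x y) (E.subgroupOf S) ?_ ?_
    · intro x hx
      rw [mem_subgroupOf]
      refine mem_of_sq hr oct (congrArg Subtype.val hx) (fun a ha => ?_)
      exact congrArg Subtype.val (hc.is_comm.comm x ⟨a, hES ha⟩)
    · rw [Nat.card_congr (subgroupOfEquivOfLe hES).toEquiv, oct.card]
  by_cases hnc : (S : Subgroup G) ⊓ normalizer (E : Set G) ≤ centralizer (E : Set G)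
  · -- `S` centralises `E`
    left
    have hom : ∀ y ∈ (S : Subgroup G) ⊓ normalizer (E : Set G), y * y = 1 → y ∈ E := by
      intro y hy hy2
      exact mem_of_sq hr oct hy2 (fun a ha => ((mem_centralizer_iff.1 (hnc hy)) a ha).symm)
    have hSQ : (S : Subgroup G) ≤ (S : Subgroup G) ⊓ normalizer (E : Set G) := by
      by_contra hcon
      obtain ⟨s, hs, hsQ, hsn⟩ := exists_normalizing S.2 inf_le_left hcon
      exact hsQ ⟨hs, mem_normalizer_of oct hE hom hsn⟩
    exact (exit hG oct hES (fun y hy => hom y (hSQ hy))).resolve_left hcomS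
  · have hnorm := norm_of hr oct h7 hE hidx hns hnc
    have hncS : ¬ (S : Subgroup G) ≤ centralizer (E : Set G) := fun hle => hnc (inf_le_left.trans hle)
    have h : Hyp S E := ⟨hr, oct, hES, hnorm, h7, hncS⟩
    by_cases hinv : ∃ y ∈ (S : Subgroup G), y ∉ centralizer (E : Set G) ∧ y * y = 1
    · right
      obtain ⟨n, hF⟩ := h.frame hinv hns
      exact ⟨n, S, _, hF⟩
    · left
      push Not at hinv
      refine (exit hG oct hES (fun y hy hy2 => ?_)).resolve_left hcomS
      by_contra hyE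
      refine hinv y hy ?_ hy2
      intro hyC
      exact hyE (mem_of_sq hr oct hy2 (fun a ha => ((mem_centralizer_iff.1 hyC) a ha).symm))

end Cfsg.Agent.RankThreeON.Seven
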